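import Cfsg.Agent.Lib.ConwayType.Axis

/-!
Two orthogonal spaces of minus type in the space of plus type, each with its five singular points.
-/

set_option autoImplicit false
set_option linter.unusedSectionVars false
set_option maxRecDepth 20000
set_option synthInstance.maxSize 2048
set_option synthInstance.maxHeartbeats 200000

namespace CfsgLib.ConwayType.Five

open QuadraticMap Equiv

def f0 : V := Pi.single (.inr 0) 1

def w1 : V := Pi.single (.inl 2) 1 + Pi.single (.inr 2) 1

def w2 : V := e2 + Pi.single (.inl 3) 1 + Pi.single (.inr 3) 1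

/-- The singular points of the two spaces. -/
def sv : Bool → Fin 5 → V
  | false => ![e0, f0, e0 + f0 + d0, e0 + f0 + d1, e0 + f0 + (d0 + d1)]
  | true => ![e1, f1, e1 + f1 + w1, e1 + f1 + w2, e1 + f1 + (w1 + w2)]

theorem sv_props : ∀ (k : Bool) (i j : Fin 5), qf (sv k i) = 0 ∧ sv k i ≠ 0 ∧ bf (sv k i) (sv (!k) j) = 0 ∧
    (i ≠ j → bf (sv k i) (sv k j) = 1) ∧ (sv k i = sv k j → i = j) := by decide +kernel

theorem sv_expand : ∀ v : V, v = (bf v (sv false 0) • sv false 0 + bf v (sv false 1) • sv false 1 +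
    bf v (sv false 2) • sv false 2 + bf v (sv false 3) • sv false 3 + bf v (sv false 4) • sv false 4) +
    (bf v (sv true 0) • sv true 0 + bf v (sv true 1) • sv true 1 +
    bf v (sv true 2) • sv true 2 + bf v (sv true 3) • sv true 3 + bf v (sv true 4) • sv true 4) := by decide +kernel

theorem sv_singular : ∀ (k : Bool) (v : V), (∀ i, bf v (sv (!k) i) = 0) → qf v = 0 →
    v = 0 ∨ ∃ i, v = sv k i := by decide +kernel

theorem sv_count : ∀ k : Bool, (Finset.univ.filter fun v : V => ∀ i, bf v (sv k i) = 0).card = 16 := by decide +kernel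

theorem sv_dual : ∀ (k : Bool) (a b c d : F2), ∃ v : V, (∀ i, bf v (sv k i) = 0) ∧ bf v (sv (!k) 0) = a ∧
    bf v (sv (!k) 1) = b ∧ bf v (sv (!k) 2) = c ∧ bf v (sv (!k) 3) = d := by decide +kernel

theorem sv_last : ∀ k : Bool, sv k 4 = sv k 0 + sv k 1 + sv k 2 + sv k 3 := by decide +kernel

theorem orth_zero {v : V} (h : ∀ k i, bf v (sv k i) = 0) : v = 0 := by
  rw [sv_expand v]
  simp [h]

theorem orth_sides {k : Bool} {u v : V} (hu : ∀ i, bf u (sv (!k) i) = 0) (hv : ∀ i, bf v (sv k i) = 0) :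
    bf u v = 0 := by
  rw [sv_expand v]
  cases k <;> simp only [Bool.not_false, Bool.not_true] at hu <;>
    simp [bf_add_right, bf_smul_right, hu, hv]

/-- `g` permutes the points of a side. -/
def Pre (k : Bool) (g : O8) : Prop := ∀ i, ∃ j, g.1 (sv k i) = sv k j

open Classical in
/-- The permutation of the points of a side. -/
noncomputable def prm (k : Bool) (g : O8) : Perm (Fin 5) :=
  if h : Pre k g then Equiv.ofBijective (fun i => (h i).choose) (Finite.injective_iff_bijective.mp fun i j e => by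
    refine (sv_props k i j).2.2.2.2 (g.1.injective ?_)
    rw [(h i).choose_spec, (h j).choose_spec]
    exact congrArg (sv k) e) else 1

theorem prm_spec {k : Bool} {g : O8} (h : Pre k g) (i : Fin 5) : g.1 (sv k i) = sv k (prm k g i) := by
  rw [prm, dif_pos h]
  exact (h i).choose_spec

theorem prm_eq {k : Bool} {g : O8} {σ : Perm (Fin 5)} (h : ∀ i, g.1 (sv k i) = sv k (σ i)) :
    Pre k g ∧ prm k g = σ := by
  have hp : Pre k g := fun i => ⟨_, h i⟩
  exact ⟨hp, Equiv.ext fun i => (sv_props k _ _).2.2.2.2 ((prm_spec hp i).symm.trans (h i))⟩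

theorem prm_mul {k : Bool} {g g' : O8} (h : Pre k g) (h' : Pre k g') :
    Pre k (g * g') ∧ prm k (g * g') = prm k g * prm k g' :=
  prm_eq fun i => by
    show g.1 (g'.1 (sv k i)) = _
    rw [prm_spec h', prm_spec h]; rfl

theorem prm_one (k : Bool) : Pre k 1 ∧ prm k 1 = 1 := prm_eq fun _ => rfl

theorem prm_inv {k : Bool} {g : O8} (h : Pre k g) : Pre k g⁻¹ ∧ prm k g⁻¹ = (prm k g)⁻¹ :=
  prm_eq fun i => by
    show g.1.symm (sv k i) = _
    rw [LinearEquiv.symm_apply_eq, prm_spec h, Perm.inv_def, Equiv.apply_symm_apply]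

theorem prm_pow {k : Bool} {g : O8} (h : Pre k g) : ∀ n : ℕ, Pre k (g ^ n) ∧ prm k (g ^ n) = prm k g ^ n
  | 0 => by simpa using prm_one k
  | n + 1 => by
      obtain ⟨h1, h2⟩ := prm_pow h n
      rw [pow_succ, pow_succ, ← h2]
      exact prm_mul h1 h

theorem prm_fix {k : Bool} {g : O8} (h : ∀ i, g.1 (sv k i) = sv k i) : Pre k g ∧ prm k g = 1 := prm_eq h

/-- Preserving one side means preserving the other. -/
theorem Pre.other {k : Bool} {g : O8} (h : Pre (!k) g) : Pre k g := by
  intro i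
  have hperp : ∀ j, bf (g.1 (sv k i)) (sv (!k) j) = 0 := by
    intro j
    obtain ⟨j', rfl⟩ := (prm (!k) g).surjective j
    rw [← prm_spec h, bf_map]
    exact (sv_props k i j').2.2.1
  rcases sv_singular k _ hperp ((g.2 _).trans (sv_props k i i).1) with e | ⟨j, e⟩
  · exact absurd (g.1.map_eq_zero_iff.mp e) (sv_props k i i).2.1
  · exact ⟨j, e⟩

theorem ext_sv {g g' : O8} (h : ∀ k i, g.1 (sv k i) = g'.1 (sv k i)) : g = g' := by
  refine Subtype.ext (LinearEquiv.ext fun v => ?_)
  rw [sv_expand v]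
  simp only [map_add, map_smul, h]

theorem ext_prm {g g' : O8} (h : ∀ k, Pre k g) (h' : ∀ k, Pre k g') (e : ∀ k, prm k g = prm k g') : g = g' :=
  ext_sv fun k i => by rw [prm_spec (h k), prm_spec (h' k), e]

theorem swap_apply_sv : ∀ (k : Bool) (i j l : Fin 5), i ≠ j →
    sv k l + bf (sv k l) (sv k i + sv k j) • (sv k i + sv k j) = sv k (swap i j l) ∧
      qf (sv k i + sv k j) = 1 ∧ bf (sv (!k) l) (sv k i + sv k j) = 0 := by decide +kernel

/-- Every permutation of one side is realised, inside the derived group exactly when it is even. -/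
theorem exists_one (k : Bool) (σ : Perm (Fin 5)) : ∃ g : O8, (∀ i, g.1 (sv k i) = sv k (σ i)) ∧
    (∀ i, g.1 (sv (!k) i) = sv (!k) i) ∧ (g ∈ Om ↔ Perm.sign σ = 1) := by
  induction σ using Perm.swap_induction_on with
  | one => exact ⟨1, fun _ => rfl, fun _ => rfl, iff_of_true (one_mem _) (map_one _)⟩
  | swap_mul σ i j hij ih =>
    obtain ⟨g, h1, h2, h3⟩ := ih
    refine ⟨tr (sv k i + sv k j) (swap_apply_sv k i j i hij).2.1 * g, fun l => ?_, fun l => ?_, ?_⟩
    · show (tr _ _).1 (g.1 (sv k l)) = _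
      rw [h1, tr_apply]
      exact (swap_apply_sv k i j (σ l) hij).1
    · show (tr _ _).1 (g.1 (sv (!k) l)) = _
      rw [h2, tr_apply, (swap_apply_sv k i j l hij).2.2, zero_smul, add_zero]
    · rw [Subgroup.mul_mem_iff_of_index_two index_Om, h3, map_mul, Perm.sign_swap hij]
      simp only [iff_false_intro (tr_not_mem _ _), false_iff]
      rcases Int.units_eq_one_or (Perm.sign σ) with e | e <;> simp [e]

/-- Every pair of permutations is realised. -/
theorem exists_pair (σ τ : Perm (Fin 5)) : ∃ g : O8, (∀ i, g.1 (sv false i) = sv false (σ i)) ∧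
    (∀ i, g.1 (sv true i) = sv true (τ i)) ∧ (g ∈ Om ↔ Perm.sign σ = Perm.sign τ) := by
  obtain ⟨g, g1, g2, g3⟩ := exists_one false σ
  obtain ⟨k, k1, k2, k3⟩ := exists_one true τ
  refine ⟨g * k, fun i => ?_, fun i => ?_, ?_⟩
  · show g.1 (k.1 (sv false i)) = _
    rw [show k.1 (sv false i) = sv false i from k2 i, g1]
  · show g.1 (k.1 (sv true i)) = _
    rw [k1, show g.1 (sv true (τ i)) = sv true (τ i) from g2 _]
  · rw [Subgroup.mul_mem_iff_of_index_two index_Om, g3, k3]
    rcases Int.units_eq_one_or (Perm.sign σ) with e | e <;> rcases Int.units_eq_one_or (Perm.sign τ) with e' | e' <;>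
      simp [e, e']

theorem mem_Om_iff {g : O8} (h : ∀ k, Pre k g) : g ∈ Om ↔ Perm.sign (prm false g) = Perm.sign (prm true g) := by
  obtain ⟨k, k1, k2, k3⟩ := exists_pair (prm false g) (prm true g)
  have e : g = k := ext_sv fun b i => by cases b <;> rw [prm_spec (h _)] <;> simp [k1, k2]
  subst e
  exact k3

/-! ### Permutations of five points -/

theorem five_cent : ∀ σ τ : Perm (Fin 5), τ ^ 5 = 1 → τ ≠ 1 → σ * τ = τ * σ → ∃ n : Fin 5, σ = τ ^ (n : ℕ) := by
  decide +kernel

theorem five_square : ∀ τ : Perm (Fin 5), τ ^ 5 = 1 → τ ≠ 1 → ∃ ν : Perm (Fin 5), Perm.sign ν = -1 ∧ ν * τ * ν⁻¹ = τ * τ := by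
  decide +kernel

theorem five_even : ∀ τ : Perm (Fin 5), τ ^ 5 = 1 → Perm.sign τ = 1 := by decide +kernel

theorem five_move : ∀ τ : Perm (Fin 5), τ ^ 5 = 1 → τ ≠ 1 → ∀ i, τ i ≠ i := by decide +kernel

theorem even_squares : ∀ σ : Perm (Fin 5), Perm.sign σ = 1 →
    ∃ a b : Perm (Fin 5), Perm.sign a = 1 ∧ Perm.sign b = 1 ∧ σ = a * a * (b * b) := by decide +kernel

end CfsgLib.ConwayType.Five
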