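import Cfsg.Agent.Lib.ConwayType.Five.Local

/-!
Groups of Conway type: an element of order five fixing a space of minus type, in normal form.
-/

set_option autoImplicit false
set_option linter.unusedSectionVars false
set_option maxRecDepth 20000
set_option synthInstance.maxSize 2048
set_option synthInstance.maxHeartbeats 200000

namespace CfsgLib.ConwayType

open QuadraticMap CfsgLargeExtra Equiv
open CfsgLib.HallJankoType (mem_cent conj_fix_iff)

universe u

variable {G : Type u} [Group G] [Finite G] {z : G} {Q : Subgroup G} {π : G → V} {M : G → O8}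

namespace Five

theorem M_pow (h : ST z Q π M) {c : G} (hc : c * z = z * c) : ∀ n : ℕ, M (c ^ n) = M c ^ n
  | 0 => by simp [h.M_one]
  | n + 1 => by rw [pow_succ, pow_succ, h.M_mul _ _ (Commute.pow_left hc n) hc, M_pow h hc n]

theorem five_one (h : ST z Q π M) {q : G} (hq : q ∈ Q) (q5 : q ^ 5 = 1) : q = 1 := by
  have h4 : q ^ 4 = 1 := congrArg Subtype.val (h.es.toExt.pow_four ⟨q, hq⟩)
  rwa [show (5 : ℕ) = 4 + 1 from rfl, pow_succ, h4, one_mul] at q5

/-- An element of order five centralizes the elements whose coordinates it fixes. -/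
theorem five_cent_lift (h : ST z Q π M) {b q : G} (hb : b * z = z * b) (b5 : b ^ 5 = 1) (hq : q ∈ Q)
    (e : (M b).1 (π q) = π q) : b * q = q * b := by
  rcases h.π_eq hq (h.nor_mem hb hq) (by rw [h.M_act b hb q hq, e]) with e' | e'
  · exact conj_fix_iff.mp e'
  · exfalso
    have hn : ∀ n : ℕ, b ^ n * q * (b ^ n)⁻¹ = q * z ^ n := by
      intro n
      induction n with
      | zero => simp
      | succ n ih =>
        rw [pow_succ', show b * b ^ n * q * (b * b ^ n)⁻¹ = b * (b ^ n * q * (b ^ n)⁻¹) * b⁻¹ by group, ih,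
          show b * (q * z ^ n) * b⁻¹ = b * q * b⁻¹ * (b * z ^ n * b⁻¹) by group, e',
          conj_fix_iff.mpr (Commute.pow_right hb n), mul_assoc, ← pow_succ']
    have h5 := hn 5
    rw [b5, show z ^ 5 = z by rw [show (5 : ℕ) = 2 * 2 + 1 from rfl, pow_succ, pow_mul, pow_two z, h.zz, one_pow, one_mul]] at h5
    simp only [inv_one, mul_one, one_mul] at h5
    exact h.es.ne (mul_eq_left.mp h5.symm)

/-- The normal form: the fixed space of `β` is the first of the two spaces. -/
structure B5 (z β : G) (Q : Subgroup G) (π : G → V) (M : G → O8) : Prop where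
  st : ST z Q π M
  bz : β * z = z * β
  b5 : orderOf β = 5
  cen : ∀ q ∈ Q, (q * β = β * q ↔ ∀ i, bf (π q) (sv true i) = 0)

theorem frame_facts : qf e0 = 0 ∧ qf f0 = 0 ∧ qf d0 = 1 ∧ qf d1 = 1 ∧ bf e0 f0 = 1 ∧ bf e0 d0 = 0 ∧
    bf e0 d1 = 0 ∧ bf f0 d0 = 0 ∧ bf f0 d1 = 0 ∧ bf d0 d1 = 1 := by decide +kernel

theorem frame_span : ∀ v : V, (∀ i, bf v (sv true i) = 0) ↔
    ∃ a b c d : F2, v = a • e0 + b • f0 + c • d0 + d • d1 := by decide +kernel

/-- The coordinates in a frame. -/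
theorem frame_coord {p f d d' : V} (hpf : bf p f = 1) (hpd : bf p d = 0) (hpd' : bf p d' = 0) (hfd : bf f d = 0)
    (hfd' : bf f d' = 0) (hdd' : bf d d' = 1) (c : Fin 4 → F2) :
    let v := Fintype.linearCombination F2 ![p, f, d, d'] c
    bf v f = c 0 ∧ bf v p = c 1 ∧ bf v d' = c 2 ∧ bf v d = c 3 := by
  simp only [Fintype.linearCombination_apply, Fin.sum_univ_four, Matrix.cons_val_zero, Matrix.cons_val_one,
    Matrix.cons_val_two, Matrix.cons_val_three, Matrix.head_cons, Matrix.tail_cons, bf_add_left, bf_smul_left,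
    bf_self, bf_comm f p, bf_comm d p, bf_comm d' p, bf_comm d f, bf_comm d' f, bf_comm d' d, hpf, hpd, hpd', hfd,
    hfd', hdd']
  simp

theorem frame_qf {p f d d' : V} (hp : qf p = 0) (hf : qf f = 0) (hd : qf d = 1) (hd' : qf d' = 1)
    (hpf : bf p f = 1) (hpd : bf p d = 0) (hpd' : bf p d' = 0) (hfd : bf f d = 0)
    (hfd' : bf f d' = 0) (hdd' : bf d d' = 1) (c : Fin 4 → F2) :
    qf (Fintype.linearCombination F2 ![p, f, d, d'] c) = c 0 * c 1 + c 2 + c 3 + c 2 * c 3 := by
  simp only [Fintype.linearCombination_apply, Fin.sum_univ_four, Matrix.cons_val_zero, Matrix.cons_val_one,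
    Matrix.cons_val_two, Matrix.cons_val_three, Matrix.head_cons, Matrix.tail_cons, qf_add, bf_add_left,
    bf_smul_left, bf_smul_right, qf_smul, hp, hf, hd, hd', hpf, hpd, hpd', hfd, hfd', hdd']
  ring

/-- The normal form exists. -/
theorem exists_B5 (h : ST z Q π M) {β : G} (bz : β * z = z * β) (b5 : orderOf β = 5)
    (hcard : Nat.card ↥(Q ⊓ Subgroup.centralizer ({β} : Set G)) = 32)
    (hnd : ∀ a ∈ Q, a * β = β * a → (∀ b ∈ Q, b * β = β * b → a * b = b * a) → a = 1 ∨ a = z)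
    (hno : ∀ a ∈ Q, ∀ b ∈ Q, a * β = β * a → b * β = β * b → a * a = 1 → b * b = 1 → a * b = b * a →
      π a ≠ 0 → π b ≠ 0 → π a = π b) :
    ∃ (π' : G → V) (M' : G → O8), B5 z β Q π' M' := by
  classical
  set C := Q ⊓ Subgroup.centralizer ({β} : Set G) with hC
  have hmem : ∀ {a}, a ∈ C ↔ a ∈ Q ∧ a * β = β * a := Subgroup.mem_inf.trans (and_congr Iff.rfl mem_cent)
  let F : Set V := π '' (C : Set G)
  have hF16 : 16 ≤ F.ncard := by
    have hsub : (C : Set G) ⊆ (fun w : V × Bool => Function.invFunOn π (C : Set G) w.1 * if w.2 then z else 1) ''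
        (F ×ˢ Set.univ) := by
      intro a ha
      have hF' : π a ∈ F := ⟨a, ha, rfl⟩
      have h1 := Function.invFunOn_mem (f := π) (s := (C : Set G)) hF'
      have h2 := Function.invFunOn_eq (f := π) (s := (C : Set G)) hF'
      rcases h.π_eq (hmem.mp h1).1 (hmem.mp ha).1 h2 with e | e
      · exact ⟨(π a, false), ⟨hF', trivial⟩, by simp [← e]⟩
      · exact ⟨(π a, true), ⟨hF', trivial⟩, by simp [← e]⟩
    have h1 := (Set.ncard_le_ncard hsub (Set.toFinite _)).trans (Set.ncard_image_le (Set.toFinite _))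
    rw [Set.ncard_prod, Set.ncard_univ, Nat.card_eq_fintype_card, Fintype.card_bool] at h1
    have : (C : Set G).ncard = 32 := hcard
    omega
  have hadd : ∀ {u v}, u ∈ F → v ∈ F → u + v ∈ F := by
    rintro u v ⟨a, ha, rfl⟩ ⟨b, hb, rfl⟩
    exact ⟨a * b, mul_mem ha hb, h.π_mul a (hmem.mp ha).1 b (hmem.mp hb).1⟩
  have h0 : (0 : V) ∈ F := ⟨1, one_mem _, h.π_one⟩
  have hsm : ∀ {u} (r : F2), u ∈ F → r • u ∈ F := by
    intro u r hu
    rcases F2_cases r with rfl | rfl
    · rw [zero_smul]; exact h0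
    · rwa [one_smul]
  have hpart : ∀ v ∈ F, v ≠ 0 → ∃ w ∈ F, bf v w = 1 := by
    rintro _ ⟨a, ha, rfl⟩ hv
    by_contra hall
    push Not at hall
    rcases hnd a (hmem.mp ha).1 (hmem.mp ha).2 (fun b hb hbb => (h.comm a (hmem.mp ha).1 b hb).mpr
        ((F2_cases _).resolve_right (hall _ ⟨b, hmem.mpr ⟨hb, hbb⟩, rfl⟩))) with rfl | rfl
    · exact hv h.π_one
    · exact hv h.π_z
  have hsing : ∀ u ∈ F, ∀ v ∈ F, u ≠ 0 → v ≠ 0 → qf u = 0 → qf v = 0 → bf u v = 0 → u = v := by
    rintro _ ⟨a, ha, rfl⟩ _ ⟨b, hb, rfl⟩ hu hv qu qv huv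
    exact hno a (hmem.mp ha).1 b (hmem.mp hb).1 (hmem.mp ha).2 (hmem.mp hb).2 ((h.sq a (hmem.mp ha).1).mpr qu)
      ((h.sq b (hmem.mp hb).1).mpr qv) ((h.comm a (hmem.mp ha).1 b (hmem.mp hb).1).mpr huv) hu hv
  -- a singular vector
  obtain ⟨p, hpF, hp0, hpq⟩ : ∃ p ∈ F, p ≠ 0 ∧ qf p = 0 := by
    by_contra hall
    push Not at hall
    have h1 : ∀ u ∈ F, u ≠ 0 → qf u = 1 := fun u hu hu0 => (F2_cases _).resolve_left (hall u hu hu0)
    obtain ⟨u, hu, hu0⟩ : ∃ u ∈ F, u ≠ 0 := by
      by_contra hc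
      push Not at hc
      have := Set.ncard_le_ncard (show F ⊆ {0} from hc) (Set.toFinite _)
      rw [Set.ncard_singleton] at this
      omega
    obtain ⟨v, hv, huv⟩ := hpart u hu hu0
    obtain ⟨w, hw, hw0, hwu, hwv, hwuv⟩ : ∃ w ∈ F, w ≠ 0 ∧ w ≠ u ∧ w ≠ v ∧ w ≠ u + v := by
      by_contra hc
      push Not at hc
      have h4 : F ⊆ (({0, u, v, u + v} : Finset V) : Set V) := fun w hw => by
        simp only [Finset.coe_insert, Finset.coe_singleton, Set.mem_insert_iff, Set.mem_singleton_iff]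
        by_cases e0 : w = 0
        · exact Or.inl e0
        by_cases e1 : w = u
        · exact Or.inr (Or.inl e1)
        by_cases e2 : w = v
        · exact Or.inr (Or.inr (Or.inl e2))
        exact Or.inr (Or.inr (Or.inr (hc w hw e0 e1 e2)))
      have := Set.ncard_le_ncard h4 (Set.toFinite _)
      rw [Set.ncard_coe_finset] at this
      have h' : ({0, u, v, u + v} : Finset V).card ≤ 4 := Finset.card_le_four
      omega
    have hne : ∀ a b : V, a ≠ b → a + b ≠ 0 := fun a b hab e => hab (by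
      calc a = a + (b + b) := by rw [V_add_self, add_zero]
        _ = b := by rw [← add_assoc, e, zero_add])
    have hbf : ∀ a ∈ F, ∀ b ∈ F, a ≠ 0 → b ≠ 0 → a ≠ b → bf a b = 1 := by
      intro a ha b hb ha0 hb0 hab
      have := h1 _ (hadd ha hb) (hne a b hab)
      rwa [qf_add, h1 a ha ha0, h1 b hb hb0, F2_add_self, zero_add] at this
    have hv0 : v ≠ 0 := fun e => by rw [e, bf_zero_right] at huv; exact zero_ne_one huv
    have huv' : u ≠ v := fun e => by rw [e, bf_self] at huv; exact zero_ne_one huv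
    have h3 := hbf w hw (u + v) (hadd hu hv) hw0 (hne u v huv') hwuv
    rw [bf_add_right, hbf w hw u hu hw0 hu0 hwu, hbf w hw v hv hw0 hv0 hwv, F2_add_self] at h3
    exact zero_ne_one h3
  obtain ⟨f', hf'F, hf'⟩ := hpart p hpF hp0
  set f := f' + qf f' • p with hfdef
  have hfF : f ∈ F := hadd hf'F (hsm _ hpF)
  have hpf : bf p f = 1 := by rw [hfdef, bf_add_right, bf_smul_right, bf_self, mul_zero, add_zero, hf']
  have hfq : qf f = 0 := by
    rw [hfdef, qf_add, qf_smul, hpq, mul_zero, add_zero, bf_smul_right, bf_comm f' p, hf', mul_one, F2_add_self]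
  -- the plane orthogonal to the pair
  let P : V → V := fun v => v + bf v f • p + bf v p • f
  have hP : ∀ v ∈ F, P v ∈ F ∧ bf (P v) p = 0 ∧ bf (P v) f = 0 := fun v hv => by
    refine ⟨hadd (hadd hv (hsm _ hpF)) (hsm _ hfF), ?_, ?_⟩ <;>
      simp only [P, bf_add_left, bf_smul_left, bf_self, bf_comm f p, hpf, mul_one, mul_zero, add_zero, F2_add_self]
  have hns : ∀ u ∈ F, u ≠ 0 → bf u p = 0 → bf u f = 0 → qf u = 1 := fun u hu hu0 hup huf =>
    (F2_cases _).resolve_left fun e => by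
      rw [hsing u hu p hpF hu0 hp0 e hpq hup, hpf] at huf
      exact one_ne_zero huf
  obtain ⟨d, hdF, hd0, hdp, hdf⟩ : ∃ d ∈ F, d ≠ 0 ∧ bf d p = 0 ∧ bf d f = 0 := by
    by_contra hall
    push Not at hall
    have h4 : F ⊆ ((Finset.univ.image fun w : F2 × F2 => w.1 • p + w.2 • f) : Set V) := by
      intro v hv
      have e : P v = 0 := by
        by_contra hne
        exact hall _ (hP v hv).1 hne (hP v hv).2.1 (hP v hv).2.2
      refine Finset.mem_image.mpr ⟨(bf v f, bf v p), Finset.mem_univ _, ?_⟩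
      calc bf v f • p + bf v p • f = (v + P v) := by simp only [P]; rw [← add_assoc, ← add_assoc, V_add_self, zero_add]
        _ = v := by rw [e, add_zero]
    have := (Set.ncard_le_ncard h4 (Set.toFinite _)).trans_eq (Set.ncard_coe_finset _)
    have h' := Finset.card_image_le (s := (Finset.univ : Finset (F2 × F2))) (f := fun w => w.1 • p + w.2 • f)
    have h'' : (Finset.univ : Finset (F2 × F2)).card = 4 := rfl
    omega
  obtain ⟨d'', hd''F, hd''⟩ := hpart d hdF hd0
  set d' := P d'' with hd'def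
  obtain ⟨hd'F, hd'p, hd'f⟩ := hP d'' hd''F
  have hdd' : bf d d' = 1 := by
    simp only [hd'def, P, bf_add_right, bf_smul_right, hdp, hdf, mul_zero, add_zero, hd'']
  have hd'0 : d' ≠ 0 := fun e => by rw [e, bf_zero_right] at hdd'; exact zero_ne_one hdd'
  have qd := hns d hdF hd0 hdp hdf
  have qd' := hns d' hd'F hd'0 hd'p hd'f
  rw [bf_comm] at hdp hdf hd'p hd'f
  obtain ⟨t0, t1, t2, t3, t4, t5, t6, t7, t8, t9⟩ := frame_facts
  have hinj : ∀ {p f d d' : V}, bf p f = 1 → bf p d = 0 → bf p d' = 0 → bf f d = 0 → bf f d' = 0 → bf d d' = 1 →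
      ∀ c : Fin 4 → F2, Fintype.linearCombination F2 ![p, f, d, d'] c = 0 → c = 0 := by
    intro p f d d' a1 a2 a3 a4 a5 a6 c e
    obtain ⟨c0, c1, c2, c3⟩ := frame_coord a1 a2 a3 a4 a5 a6 c
    simp only [e, bf_zero_left] at c0 c1 c2 c3
    funext i
    fin_cases i <;> simp [← c0, ← c1, ← c2, ← c3]
  obtain ⟨g, hg⟩ := move ![p, f, d, d'] ![e0, f0, d0, d1] (hinj hpf hdp hd'p hdf hd'f hdd')
    (hinj t4 t5 t6 t7 t8 t9) fun c => by
      rw [frame_qf hpq hfq qd qd' hpf hdp hd'p hdf hd'f hdd', frame_qf t0 t1 t2 t3 t4 t5 t6 t7 t8 t9]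
  have g0 : g.1 p = e0 := hg 0
  have g1 : g.1 f = f0 := hg 1
  have g2 : g.1 d = d0 := hg 2
  have g3 : g.1 d' = d1 := hg 3
  -- the fixed space is the span of the frame
  let L : (Fin 4 → F2) → V := Fintype.linearCombination F2 ![p, f, d, d']
  have hL : ∀ c, L c = c 0 • p + c 1 • f + c 2 • d + c 3 • d' := fun c => by
    simp [L, Fintype.linearCombination_apply, Fin.sum_univ_four]
  have hLF : Set.range L ⊆ F := by
    rintro _ ⟨c, rfl⟩
    rw [hL]
    exact hadd (hadd (hadd (hsm _ hpF) (hsm _ hfF)) (hsm _ hdF)) (hsm _ hd'F)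
  have hF_eq : Set.range L = F := by
    refine Set.eq_of_subset_of_ncard_le hLF ?_ (Set.toFinite _)
    rw [Set.ncard_range_of_injective ((injective_iff_map_eq_zero _).mpr (hinj hpf hdp hd'p hdf hd'f hdd')),
      Nat.card_eq_fintype_card, Fintype.card_fun, Fintype.card_fin, ZMod.card]
    have h32 : F.ncard ≤ 16 := by
      by_contra hgt
      push Not at hgt
      have hinjF : Set.InjOn (fun w : V × Bool => Function.invFunOn π (C : Set G) w.1 * if w.2 then z else 1)
          (F ×ˢ Set.univ) := by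
        rintro ⟨u, a⟩ ⟨hu, -⟩ ⟨v, b⟩ ⟨hv, -⟩ e
        have hu1 := Function.invFunOn_mem (f := π) (s := (C : Set G)) hu
        have hu2 := Function.invFunOn_eq (f := π) (s := (C : Set G)) hu
        have hv1 := Function.invFunOn_mem (f := π) (s := (C : Set G)) hv
        have hv2 := Function.invFunOn_eq (f := π) (s := (C : Set G)) hv
        have hπ : ∀ (w : G) (c : Bool), w ∈ Q → π (w * if c then z else 1) = π w := fun w c hw => by
          cases c
          · simp
          · simp [h.π_mul_z hw]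
        have := congrArg π e
        simp only at this
        rw [hπ _ a (hmem.mp hu1).1, hπ _ b (hmem.mp hv1).1, hu2, hv2] at this
        subst this
        simp only [mul_right_inj] at e
        cases a <;> cases b <;> simp at e ⊢
        · exact h.es.ne e.symm
        · exact h.es.ne e
      have := Set.ncard_le_ncard_of_injOn (t := (C : Set G)) _ (by
        rintro ⟨u, a⟩ ⟨hu, -⟩
        refine mul_mem (Function.invFunOn_mem (f := π) (s := (C : Set G)) hu) ?_
        split_ifs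
        · exact hmem.mpr ⟨h.es.mem, bz.symm⟩
        · exact one_mem _) hinjF (Set.toFinite _)
      rw [Set.ncard_prod, Set.ncard_univ, Nat.card_eq_fintype_card, Fintype.card_bool,
        show (C : Set G).ncard = 32 from hcard] at this
      omega
    exact h32
  have b55 : β ^ 5 = 1 := b5 ▸ pow_orderOf_eq_one β
  refine ⟨fun a => g.1 (π a), fun c => g * M c * g⁻¹, h.twist g, bz, b5, fun q hq => ?_⟩
  rw [frame_span]
  constructor
  · intro hqb
    obtain ⟨c, hc⟩ : π q ∈ Set.range L := hF_eq ▸ ⟨q, hmem.mpr ⟨hq, hqb⟩, rfl⟩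
    refine ⟨c 0, c 1, c 2, c 3, ?_⟩
    show g.1 (π q) = _
    rw [← hc, hL, map_add, map_add, map_add, map_smul, map_smul, map_smul, map_smul, g0, g1, g2, g3]
  · rintro ⟨a, b, c, d₁, e⟩
    have e' : π q = L ![a, b, c, d₁] := g.1.injective (by
      rw [hL]
      simp only [map_add, map_smul, g0, g1, g2, g3, Matrix.cons_val_zero, Matrix.cons_val_one, Matrix.cons_val_two,
        Matrix.cons_val_three, Matrix.head_cons, Matrix.tail_cons]
      exact e)
    obtain ⟨r, hr, hre⟩ : π q ∈ F := hLF ⟨_, e'.symm⟩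
    rcases h.π_eq (hmem.mp hr).1 hq hre with rfl | rfl
    · exact (hmem.mp hr).2
    · exact Commute.mul_left (hmem.mp hr).2 bz.symm

namespace B5

variable {β : G} (T : B5 z β Q π M)
include T

theorem beta5 : β ^ 5 = 1 := T.b5 ▸ pow_orderOf_eq_one β

theorem beta_ne : β ≠ 1 := fun e => by
  have := T.b5
  rw [e, orderOf_one] at this
  omega

theorem beta_Sd : β ∈ Sd T.st true := (mem_Sd T.st).mpr ⟨T.bz, fun q hq => ((T.cen q hq.1).mpr hq.2).symm⟩

theorem tau_five : prm true (M β) ^ 5 = 1 := by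
  rw [← (prm_pow (Sd_pre T.st T.beta_Sd true) 5).2, ← M_pow T.st T.bz, T.beta5, T.st.M_one]
  exact (prm_one true).2

theorem tau_ne : prm true (M β) ≠ 1 := fun e =>
  T.beta_ne (five_one T.st ((mem_Qs T.st).mp ((Sd_ker T.st T.beta_Sd).mp e)).1 T.beta5)

theorem Qs_false_comm {q : G} (hq : q ∈ Qs T.st false) : q * β = β * q := (T.cen q hq.1).mpr hq.2

theorem Qs_of_comm {q : G} (hq : q ∈ Q) (hqb : q * β = β * q) : q ∈ Qs T.st false := ⟨hq, (T.cen q hq).mp hqb⟩

theorem Sd_false_comm {a : G} (ha : a ∈ Sd T.st false) : a * β = β * a := Sd_comm T.st ha T.beta_Sd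

theorem pow_fix {v : V} (hv : (M β).1 v = v) : ∀ i, bf v (sv true i) = 0 := by
  obtain ⟨q, hq, rfl⟩ := T.st.π_surj v
  exact (T.cen q hq).mp (five_cent_lift T.st T.bz T.beta5 hq hv).symm

/-- Elements centralizing `β` and `z` preserve the two spaces. -/
theorem cent_pre {c : G} (hcz : c * z = z * c) (hcb : c * β = β * c) : ∀ b, Pre b (M c) := by
  have h1 : Pre false (M c) := by
    intro i
    have hfix : (M β).1 ((M c).1 (sv false i)) = (M c).1 (sv false i) := by
      have e : M β * M c = M c * M β := by rw [← T.st.M_mul _ _ T.bz hcz, ← T.st.M_mul _ _ hcz T.bz, hcb]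
      calc (M β).1 ((M c).1 (sv false i)) = (M β * M c).1 (sv false i) := rfl
        _ = (M c).1 ((M β).1 (sv false i)) := by rw [e]; rfl
        _ = _ := by rw [show (M β).1 (sv false i) = sv false i from Sd_fix T.st T.beta_Sd i]
    rcases sv_singular false _ (T.pow_fix hfix) ((((M c)).2 _).trans (sv_props false i i).1) with e | ⟨j, e⟩
    · exact absurd ((M c).1.map_eq_zero_iff.mp e) (sv_props false i i).2.1
    · exact ⟨j, e⟩
  intro b
  cases b
  exacts [h1, Pre.other (k := true) h1]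

/-- The centralizer of `β` in `C(z)`. -/
theorem cent_split {c : G} (hcz : c * z = z * c) (hcb : c * β = β * c) :
    ∃ a ∈ Sd T.st false, ∃ n : ℕ, c = a * β ^ n := by
  have hp := T.cent_pre hcz hcb
  have hb := Sd_pre T.st T.beta_Sd
  obtain ⟨n, hn⟩ := five_cent (prm true (M c)) (prm true (M β)) T.tau_five T.tau_ne (by
    rw [← (prm_mul (hp true) (hb true)).2, ← (prm_mul (hb true) (hp true)).2, ← T.st.M_mul _ _ hcz T.bz,
      ← T.st.M_mul _ _ T.bz hcz, hcb])
  refine ⟨c * (β ^ (n : ℕ))⁻¹, ?_, (n : ℕ), (inv_mul_cancel_right _ _).symm⟩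
  set d := c * (β ^ (n : ℕ))⁻¹ with hd
  have hbn : (β ^ (n : ℕ))⁻¹ * z = z * (β ^ (n : ℕ))⁻¹ := Commute.inv_left (Commute.pow_left T.bz _)
  have hdz : d * z = z * d := Commute.mul_left hcz hbn
  have hdb : d * β = β * d := Commute.mul_left hcb (Commute.inv_left (Commute.pow_left (Commute.refl β) _))
  have hdp := T.cent_pre hdz hdb
  have hd1 : prm true (M d) = 1 := by
    have hbp := (prm_pow (hb true) (n : ℕ))
    rw [hd, T.st.M_mul _ _ hcz hbn, T.st.M_inv (Commute.pow_left T.bz _), M_pow T.st T.bz,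
      (prm_mul (hp true) (prm_inv hbp.1).1).2, (prm_inv hbp.1).2, hbp.2, hn, mul_inv_cancel]
  have hsign : Perm.sign (prm false (M d)) = 1 := by
    have := (mem_Om_iff hdp).mp (T.st.M_mem d hdz)
    rw [this, hd1, map_one]
  obtain ⟨a, ha, hae⟩ := Sd_surj T.st false hsign
  have hM : M d = M a := ext_prm hdp (Sd_pre T.st ha) fun b => by
    cases b
    · exact hae.symm
    · rw [hd1]
      exact (Sd_prm_other T.st ha).symm
  have haz := ((mem_Sd T.st).mp ha).1
  have hq : a⁻¹ * d ∈ Q := (T.st.M_ker _ (Commute.mul_left (Commute.inv_left haz) hdz)).mp (by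
    rw [T.st.M_mul _ _ (Commute.inv_left haz) hdz, T.st.M_inv haz, hM, inv_mul_cancel])
  rw [show d = a * (a⁻¹ * d) by group]
  exact mul_mem ha (Qs_le_Sd T.st _ (T.Qs_of_comm hq
    (Commute.mul_left (Commute.inv_left (T.Sd_false_comm ha)) hdb)))

theorem pow_meet {n : ℕ} (hn : β ^ n ∈ Sd T.st false) : β ^ n = 1 := by
  have h2 : prm true (M (β ^ n)) = 1 := Sd_prm_other T.st hn
  have h3 := (mem_Qs T.st).mp ((Sd_ker T.st (pow_mem T.beta_Sd n)).mp h2)
  exact five_one T.st h3.1 (by rw [← pow_mul, mul_comm, pow_mul, T.beta5, one_pow])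

theorem two_elem {c : G} (hcz : c * z = z * c) (hcb : c * β = β * c) {m : ℕ} (h2 : c ^ 2 ^ m = 1) :
    c ∈ Sd T.st false := by
  obtain ⟨a, ha, n, rfl⟩ := T.cent_split hcz hcb
  have hab : Commute a (β ^ n) := Commute.pow_right (T.Sd_false_comm ha) n
  rw [hab.mul_pow] at h2
  have h3 : (β ^ n) ^ 2 ^ m = 1 := by
    rw [← pow_mul]
    refine T.pow_meet ?_
    rw [pow_mul, show (β ^ n) ^ 2 ^ m = (a ^ 2 ^ m)⁻¹ from eq_inv_of_mul_eq_one_right h2]
    exact inv_mem (pow_mem ha _)
  have h4 : orderOf (β ^ n) ∣ Nat.gcd (2 ^ m) 5 := Nat.dvd_gcd (orderOf_dvd_of_pow_eq_one h3)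
    (orderOf_dvd_of_pow_eq_one (by rw [← pow_mul, mul_comm, pow_mul, T.beta5, one_pow]))
  rw [(Nat.Coprime.pow_left m (by norm_num : Nat.Coprime 2 5)), Nat.dvd_one, orderOf_eq_one_iff] at h4
  rwa [h4, mul_one]

end B5

end Five

end CfsgLib.ConwayType
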