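import Cfsg.Agent.Lib.ConwayType.Five.Element
import Cfsg.Agent.Lib.ConwayType.NotConj

/-!
Groups of Conway type: fusion and a second class of involutions in the centralizer of the element of order five.
-/

set_option autoImplicit false
set_option linter.unusedSectionVars false
set_option maxRecDepth 20000
set_option synthInstance.maxSize 2048
set_option synthInstance.maxHeartbeats 200000

namespace CfsgLib.ConwayType.Five

open QuadraticMap CfsgLargeExtra Equiv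
open CfsgLib.HallJankoType (mem_cent conj_fix_iff)

universe u

theorem singular_count : (Finset.univ.filter fun v : V => qf v = 0 ∧ v ≠ 0).card = 135 := by decide +kernel

theorem plane_partner : ∀ δ : V, (∀ i, bf δ (sv true i) = 0) → bf δ (sv false 0) = 0 → qf δ = 1 →
    ∃ v : V, (∀ i, bf v (sv true i) = 0) ∧ bf v (sv false 0) = 0 ∧ qf v = 1 ∧ bf v δ = 1 := by decide +kernel

theorem pt_mid : ∃ v : V, (∀ i, bf v (sv true i) = 0) ∧ bf v (sv false 0) = 0 ∧ qf v = 1 := by decide +kernel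

/-- The stabiliser of the standard point. -/
noncomputable def Stp : Subgroup Om where
  carrier := {g | (g : O8).1 e0 = e0}
  one_mem' := rfl
  mul_mem' := fun {g k} hg hk => by
    show (g : O8).1 ((k : O8).1 e0) = e0
    rw [show (k : O8).1 e0 = e0 from hk]; exact hg
  inv_mem' := fun {g} hg => by
    show (g : O8).1.symm e0 = e0
    conv_lhs => rw [← (show (g : O8).1 e0 = e0 from hg)]
    rw [LinearEquiv.symm_apply_apply]

theorem card_Stp : Nat.card Stp = 1290240 := by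
  classical
  let S := {v : V // qf v = 0 ∧ v ≠ 0}
  let f : Om → S := fun g => ⟨(g : O8).1 e0, ((g : O8).2 e0).trans std_q.1,
    fun e => std_ne.1 ((g : O8).1.map_eq_zero_iff.mp e)⟩
  have hf : ∀ g k : Om, f g = f k ↔ g⁻¹ * k ∈ Stp := by
    intro g k
    show f g = f k ↔ (g : O8).1.symm ((k : O8).1 e0) = e0
    rw [LinearEquiv.symm_apply_eq]
    exact ⟨fun e => (congrArg Subtype.val e).symm, fun e => Subtype.ext e.symm⟩
  let φ : Om ⧸ Stp → S := Quotient.lift f fun g k e => (hf g k).mpr (QuotientGroup.leftRel_apply.mp e)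
  have hφ : Function.Bijective φ := by
    refine ⟨fun a b => Quotient.inductionOn₂ a b fun g k e => QuotientGroup.eq.mpr ((hf g k).mp e), fun v => ?_⟩
    obtain ⟨g, hg, hge⟩ := std_one v.2.1 v.2.2
    exact ⟨QuotientGroup.mk (⟨g⁻¹, inv_mem hg⟩ : Om), Subtype.ext (by
      show g.1.symm e0 = v.1
      rw [← hge, LinearEquiv.symm_apply_apply])⟩
  have h := Stp.card_mul_index
  rw [Subgroup.index, Nat.card_congr (Equiv.ofBijective φ hφ), Nat.card_eq_fintype_card (α := S), Fintype.card_subtype,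
    singular_count, card_Om] at h
  omega

variable {G : Type u} [Group G] [Finite G] {z : G} {Q : Subgroup G} {π : G → V} {M : G → O8}

/-- In a group with Sylow five-subgroups of order five, elements of order five have conjugate powers. -/
theorem five_conj (K : Subgroup G) (hK : ¬ 25 ∣ Nat.card K) {a b : G} (ha : a ∈ K) (hb : b ∈ K)
    (oa : orderOf a = 5) (ob : orderOf b = 5) : ∃ k ∈ K, ∃ n : ℕ, k * a * k⁻¹ = b ^ n := by
  classical
  haveI : Fact (Nat.Prime 5) := ⟨by norm_num⟩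
  let A : K := ⟨a, ha⟩
  let B : K := ⟨b, hb⟩
  have hidx : ∀ C : K, orderOf C = 5 → ¬ 5 ∣ (Subgroup.zpowers C).index := by
    intro C hC hdvd
    refine hK ?_
    rw [← (Subgroup.zpowers C).card_mul_index, Nat.card_zpowers, hC]
    exact Nat.mul_dvd_mul_left 5 hdvd
  have oA : orderOf A = 5 := by rw [← Subgroup.orderOf_coe]; exact oa
  have oB : orderOf B = 5 := by rw [← Subgroup.orderOf_coe]; exact ob
  have hp : ∀ C : K, orderOf C = 5 → IsPGroup 5 ↥(Subgroup.zpowers C) := fun C hC =>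
    IsPGroup.of_card (n := 1) (by rw [Nat.card_zpowers, hC, pow_one])
  obtain ⟨g, hg⟩ := MulAction.exists_smul_eq K ((hp A oA).toSylow (hidx A oA)) ((hp B oB).toSylow (hidx B oB))
  have hgA : g * A * g⁻¹ ∈ Subgroup.zpowers B := by
    have hs := Subgroup.smul_mem_pointwise_smul A (MulAut.conj g) _
      (((hp A oA).mem_toSylow (hidx A oA)).mpr (Subgroup.mem_zpowers A))
    rw [← Sylow.coe_subgroup_smul] at hs
    rw [hg] at hs
    exact hs
  obtain ⟨n, hn⟩ := (Submonoid.mem_powers_iff _ _).mp (mem_powers_iff_mem_zpowers.mpr hgA)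
  exact ⟨g, g.2, n, by simpa [A, B] using (congrArg Subtype.val hn).symm⟩

theorem pow_eq_of_mod {a : G} (h5 : a ^ 5 = 1) {m n : ℕ} (e : m % 5 = n % 5) : a ^ m = a ^ n := by
  rw [pow_eq_pow_mod m h5, pow_eq_pow_mod n h5, e]

/-- The data: `g` interchanges `z` and `x` and centralizes `β`. -/
structure Sw (z β x g : G) (Q : Subgroup G) (π : G → V) (M : G → O8) : Prop where
  base : B5 z β Q π M
  xQs : x ∈ Qs base.st false
  xπ : π x = sv false 0
  gz : g * z * g⁻¹ = x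
  gx : g * x * g⁻¹ = z
  gb : g * β = β * g

namespace B5

variable {β : G} (T : B5 z β Q π M)
include T

theorem Mbeta_five : orderOf (M β) = 5 := by
  haveI : Fact (Nat.Prime 5) := ⟨by norm_num⟩
  refine orderOf_eq_prime (by rw [← M_pow T.st T.bz, T.beta5, T.st.M_one]) fun e => T.tau_ne ?_
  rw [e]
  exact (prm_one true).2

variable {x : G} (hxQ : x ∈ Qs T.st false) (hxπ : π x = sv false 0)
include hxQ hxπ

theorem xx_aux : x * x = 1 := (T.st.sq x hxQ.1).mpr (by rw [hxπ]; exact (sv_props false 0 0).1)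

theorem not_25 : ¬ 25 ∣ Nat.card ↥(Subgroup.centralizer ({z} : Set G) ⊓ Subgroup.centralizer ({x} : Set G)) := by
  classical
  haveI : Finite O8 := finite_O8
  set K := Subgroup.centralizer ({z} : Set G) ⊓ Subgroup.centralizer ({x} : Set G) with hK
  have hz : ∀ c : K, (c : G) * z = z * c := fun c => mem_cent.mp c.2.1
  let φ : K →* Om := MonoidHom.mk' (fun c => ⟨M (c : G), T.st.M_mem _ (hz c)⟩) fun c d =>
    Subtype.ext (T.st.M_mul _ _ (hz c) (hz d))
  have hker : IsPGroup 2 ↥φ.ker := fun c => ⟨2, by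
    have hq : ((c : K) : G) ∈ Q := (T.st.M_ker _ (hz (c : K))).mp (congrArg Subtype.val (MonoidHom.mem_ker.mp c.2))
    have h4 : ((c : K) : G) ^ 4 = 1 := congrArg Subtype.val (T.st.es.toExt.pow_four ⟨_, hq⟩)
    exact Subtype.ext (Subtype.ext (by simpa using h4))⟩
  have hran : φ.range ≤ Stp := by
    rintro _ ⟨c, rfl⟩
    show (M (c : G)).1 e0 = e0
    have h0 : sv false 0 = e0 := rfl
    rw [← h0, ← hxπ, ← T.st.M_act _ (hz c) x hxQ.1, conj_fix_iff.mpr (mem_cent.mp c.2.2)]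
  intro h25
  obtain ⟨k, hk⟩ := IsPGroup.iff_card.mp hker
  rw [← φ.ker.card_mul_index, Subgroup.index_ker, hk] at h25
  have hcop : Nat.Coprime 25 (2 ^ k) := Nat.Coprime.pow_right k (by norm_num)
  have h := (hcop.dvd_of_dvd_mul_left h25).trans ((Subgroup.card_dvd_of_le hran).trans (dvd_of_eq card_Stp))
  norm_num at h

/-- The powers of `β` are realised by its normaliser in the centralizer of the four-group. -/
theorem exists_power : ∃ c : G, c * z = z * c ∧ c * x = x * c ∧ c * β * c⁻¹ = β ^ 2 := by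
  classical
  obtain ⟨ν, hν, hνe⟩ := five_square _ T.tau_five T.tau_ne
  obtain ⟨g, g1, g2, g3⟩ := exists_pair (swap 1 2) ν
  have hg : g ∈ Om := g3.mpr (by rw [hν, Perm.sign_swap (by decide)])
  obtain ⟨c, hcz, hM⟩ := T.st.M_surj g hg
  have hcx0 : c * x * c⁻¹ = x ∨ c * x * c⁻¹ = x * z := T.st.π_eq hxQ.1 (T.st.nor_mem hcz hxQ.1) (by
    rw [T.st.M_act c hcz x hxQ.1, hM, hxπ, g1, show swap (1 : Fin 5) 2 0 = 0 from by decide])
  -- adjust so that `x` is fixed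
  obtain ⟨c₁, hc₁z, hc₁x, hM₁⟩ : ∃ c₁, c₁ * z = z * c₁ ∧ c₁ * x = x * c₁ ∧ M c₁ = g := by
    rcases hcx0 with e | e
    · exact ⟨c, hcz, conj_fix_iff.mp e, hM⟩
    · obtain ⟨r, hr, hre⟩ := exists_Qs T.st false 1
      have hrz := T.st.es.comm r hr.1
      have hrx : r * x * r⁻¹ = x * z := by
        rw [T.st.conj_Q hr.1 hxQ.1, hre, hxπ, if_neg]
        rw [(sv_props false 1 0).2.2.2.1 (by decide)]
        exact one_ne_zero
      refine ⟨r * c, Commute.mul_left hrz hcz, conj_fix_iff.mp ?_, by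
        rw [T.st.M_mul _ _ hrz hcz, T.st.M_Q hr.1, one_mul, hM]⟩
      rw [show r * c * x * (r * c)⁻¹ = r * (c * x * c⁻¹) * r⁻¹ by group, e,
        show r * (x * z) * r⁻¹ = r * x * r⁻¹ * (r * z * r⁻¹) by group, hrx, conj_fix_iff.mpr hrz, mul_assoc,
        T.st.zz, mul_one]
  have hbx : β * x = x * β := (T.Qs_false_comm hxQ).symm
  have hp : ∀ b, Pre b g := fun b => by
    cases b
    · exact (prm_eq g1).1
    · exact (prm_eq g2).1
  have hMc : M (c₁ * β * c₁⁻¹) = M β ^ 2 := by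
    rw [T.st.M_mul _ _ (Commute.mul_left hc₁z T.bz) (Commute.inv_left hc₁z), T.st.M_mul _ _ hc₁z T.bz,
      T.st.M_inv hc₁z, hM₁]
    have hb := Sd_pre T.st T.beta_Sd
    have h1 := fun b => prm_mul (hp b) (hb b)
    refine ext_prm (fun b => (prm_mul (h1 b).1 (prm_inv (hp b)).1).1) (fun b => (prm_pow (hb b) 2).1) fun b => ?_
    rw [(prm_mul (h1 b).1 (prm_inv (hp b)).1).2, (h1 b).2, (prm_inv (hp b)).2, (prm_pow (hb b) 2).2]
    cases b
    · rw [show prm false (M β) = 1 from Sd_prm_other T.st T.beta_Sd, mul_one, mul_inv_cancel, one_pow]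
    · rw [(prm_eq g2).2, hνe, pow_two]
  -- Sylow's theorem above the powers of the image
  let K0 : Subgroup G :=
    { carrier := {a | (a * z = z * a ∧ a * x = x * a) ∧ M a ∈ Subgroup.zpowers (M β)}
      one_mem' := ⟨⟨by simp, by simp⟩, by rw [T.st.M_one]; exact one_mem _⟩
      mul_mem' := fun {a b} ha hb => ⟨⟨Commute.mul_left ha.1.1 hb.1.1, Commute.mul_left ha.1.2 hb.1.2⟩,
        by rw [T.st.M_mul _ _ ha.1.1 hb.1.1]; exact mul_mem ha.2 hb.2⟩
      inv_mem' := fun {a} ha => ⟨⟨Commute.inv_left ha.1.1, Commute.inv_left ha.1.2⟩,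
        by rw [T.st.M_inv ha.1.1]; exact inv_mem ha.2⟩ }
  have hK0 : ¬ 25 ∣ Nat.card K0 := fun h => T.not_25 hxQ hxπ (h.trans (Subgroup.card_dvd_of_le
    fun a ha => ⟨mem_cent.mpr ha.1.1, mem_cent.mpr ha.1.2⟩))
  have hmem1 : c₁ * β * c₁⁻¹ ∈ K0 := ⟨⟨Commute.mul_left (Commute.mul_left hc₁z T.bz) (Commute.inv_left hc₁z),
    Commute.mul_left (Commute.mul_left hc₁x hbx) (Commute.inv_left hc₁x)⟩, by
      rw [hMc]; exact pow_mem (Subgroup.mem_zpowers _) 2⟩
  haveI : Fact (Nat.Prime 5) := ⟨by norm_num⟩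
  obtain ⟨k, hk, n, hn⟩ := five_conj K0 hK0 hmem1 ⟨⟨T.bz, hbx⟩, Subgroup.mem_zpowers _⟩
    (orderOf_eq_prime (by rw [conj_pow, T.beta5, mul_one, mul_inv_cancel])
      fun e => T.beta_ne (conj_eq_one_iff.mp e)) T.b5
  have hkz := hk.1.1
  have hn2 : n % 5 = 2 := by
    obtain ⟨i, hi⟩ := Subgroup.mem_zpowers_iff.mp hk.2
    have e : M β ^ n = M β ^ 2 := by
      rw [← M_pow T.st T.bz, ← hn, T.st.M_mul _ _ (Commute.mul_left hkz hmem1.1.1) (Commute.inv_left hkz),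
        T.st.M_mul _ _ hkz hmem1.1.1, T.st.M_inv hkz, hMc, ← hi]
      group
    have := pow_eq_pow_iff_modEq.mp e
    rwa [T.Mbeta_five] at this
  refine ⟨k * c₁, Commute.mul_left hkz hc₁z, Commute.mul_left hk.1.2 hc₁x, ?_⟩
  rw [show k * c₁ * β * (k * c₁)⁻¹ = k * (c₁ * β * c₁⁻¹) * k⁻¹ by group, hn,
    pow_eq_of_mod T.beta5 (show n % 5 = 2 % 5 from hn2)]

/-- The swap. -/
theorem exists_Sw : ∃ g : G, Sw z β x g Q π M := by
  have hst := T.st
  have hxS : x ∈ hst.S := ⟨hxQ.1, T.xx_aux hxQ hxπ, by rw [hxπ]; exact (sv_props false 0 0).2.1⟩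
  have hxz : x ≠ z := fun e => hxS.2.2 (by rw [e, hst.π_z])
  obtain ⟨g₀, hg₀⟩ := isConj_iff.mp (hst.isConj_S hxS)
  have hp' : g₀⁻¹ * z * g₀ ∈ Q := CfsgLargeExtra.mem_cj.mp (hst.symm_mem (g := g₀) (by rw [hg₀]; exact hxQ.1))
  have hp'S : g₀⁻¹ * z * g₀ ∈ hst.S := by
    refine hst.mem_S_of hp' ?_ ?_ fun e => hxz ?_
    · rw [show g₀⁻¹ * z * g₀ * (g₀⁻¹ * z * g₀) = g₀⁻¹ * (z * z) * g₀ by group, hst.zz]; group
    · intro e
      exact hst.es.ne (by simpa [mul_assoc] using congrArg (fun t => g₀ * t * g₀⁻¹) e)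
    · rw [← hg₀]; conv_lhs => rw [← e]
      group
  obtain ⟨c, hc, hce⟩ := hst.trans_S hxS hp'S
  set g₁ := g₀ * c with hg₁
  have h1z : g₁ * z * g₁⁻¹ = x := by
    rw [hg₁, show g₀ * c * z * (g₀ * c)⁻¹ = g₀ * (c * z * c⁻¹) * g₀⁻¹ by group, conj_fix_iff.mpr hc, hg₀]
  have h1x : g₁ * x * g₁⁻¹ = z := by
    rw [hg₁, show g₀ * c * x * (g₀ * c)⁻¹ = g₀ * (c * x * c⁻¹) * g₀⁻¹ by group, hce]; group
  have hbx : β * x = x * β := (T.Qs_false_comm hxQ).symm
  have hb1z : g₁ * β * g₁⁻¹ * z = z * (g₁ * β * g₁⁻¹) := by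
    calc g₁ * β * g₁⁻¹ * z = g₁ * β * g₁⁻¹ * (g₁ * x * g₁⁻¹) := by rw [h1x]
      _ = g₁ * (β * x) * g₁⁻¹ := by group
      _ = g₁ * (x * β) * g₁⁻¹ := by rw [hbx]
      _ = g₁ * x * g₁⁻¹ * (g₁ * β * g₁⁻¹) := by group
      _ = z * (g₁ * β * g₁⁻¹) := by rw [h1x]
  have hb1x : g₁ * β * g₁⁻¹ * x = x * (g₁ * β * g₁⁻¹) := by
    calc g₁ * β * g₁⁻¹ * x = g₁ * β * g₁⁻¹ * (g₁ * z * g₁⁻¹) := by rw [h1z]
      _ = g₁ * (β * z) * g₁⁻¹ := by group
      _ = g₁ * (z * β) * g₁⁻¹ := by rw [T.bz]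
      _ = g₁ * z * g₁⁻¹ * (g₁ * β * g₁⁻¹) := by group
      _ = x * (g₁ * β * g₁⁻¹) := by rw [h1z]
  haveI : Fact (Nat.Prime 5) := ⟨by norm_num⟩
  obtain ⟨k, hk, n, hn⟩ := five_conj _ (T.not_25 hxQ hxπ)
    (show g₁ * β * g₁⁻¹ ∈ Subgroup.centralizer ({z} : Set G) ⊓ Subgroup.centralizer ({x} : Set G) from
      ⟨mem_cent.mpr hb1z, mem_cent.mpr hb1x⟩)
    (show β ∈ _ from ⟨mem_cent.mpr T.bz, mem_cent.mpr hbx⟩)
    (orderOf_eq_prime (by rw [conj_pow, T.beta5, mul_one, mul_inv_cancel])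
      fun e => T.beta_ne (conj_eq_one_iff.mp e)) T.b5
  have hkz := mem_cent.mp hk.1
  have hkx := mem_cent.mp hk.2
  obtain ⟨d, hdz, hdx, hd⟩ := T.exists_power hxQ hxπ
  have hdm : ∀ m : ℕ, d ^ m * β * (d ^ m)⁻¹ = β ^ 2 ^ m := by
    intro m
    induction m with
    | zero => simp
    | succ m ih =>
      rw [pow_succ', show d * d ^ m * β * (d * d ^ m)⁻¹ = d * (d ^ m * β * (d ^ m)⁻¹) * d⁻¹ by group, ih, ← conj_pow,
        hd, ← pow_mul, pow_succ']
  have hn0 : n % 5 ≠ 0 := fun e => by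
    rw [pow_eq_of_mod T.beta5 (show n % 5 = 0 % 5 by omega), pow_zero] at hn
    exact T.beta_ne (conj_eq_one_iff.mp (conj_eq_one_iff.mp hn))
  have hm : ∃ m : ℕ, (n * 2 ^ m) % 5 = 1 := by
    rcases (show n % 5 = 1 ∨ n % 5 = 2 ∨ n % 5 = 3 ∨ n % 5 = 4 by omega) with e | e | e | e
    · exact ⟨0, by omega⟩
    · exact ⟨3, by omega⟩
    · exact ⟨1, by omega⟩
    · exact ⟨2, by omega⟩
  obtain ⟨m, hm⟩ := hm
  have hdmz : d ^ m * z = z * d ^ m := Commute.pow_left hdz m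
  have hdmx : d ^ m * x = x * d ^ m := Commute.pow_left hdx m
  refine ⟨d ^ m * k * g₁, T, hxQ, hxπ, ?_, ?_, ?_⟩
  · rw [show d ^ m * k * g₁ * z * (d ^ m * k * g₁)⁻¹ = d ^ m * (k * (g₁ * z * g₁⁻¹) * k⁻¹) * (d ^ m)⁻¹ by group, h1z,
      conj_fix_iff.mpr hkx, conj_fix_iff.mpr hdmx]
  · rw [show d ^ m * k * g₁ * x * (d ^ m * k * g₁)⁻¹ = d ^ m * (k * (g₁ * x * g₁⁻¹) * k⁻¹) * (d ^ m)⁻¹ by group, h1x,
      conj_fix_iff.mpr hkz, conj_fix_iff.mpr hdmz]
  · refine mul_inv_eq_iff_eq_mul.mp ?_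
    rw [show d ^ m * k * g₁ * β * (d ^ m * k * g₁)⁻¹ = d ^ m * (k * (g₁ * β * g₁⁻¹) * k⁻¹) * (d ^ m)⁻¹ by group, hn,
      ← conj_pow, hdm, ← pow_mul, pow_eq_of_mod T.beta5 (show (2 ^ m * n) % 5 = 1 % 5 by rw [mul_comm, hm]), pow_one]

end B5

namespace Sw

variable {β x g : G} (W : Sw z β x g Q π M)
include W

theorem xx : x * x = 1 := W.base.xx_aux W.xQs W.xπ

theorem gb' : g⁻¹ * β = β * g⁻¹ := Commute.inv_left W.gb

theorem giz : g⁻¹ * z * g = x := by
  conv_lhs => rw [← W.gx]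
  group

theorem gix : g⁻¹ * x * g = z := by
  conv_lhs => rw [← W.gz]
  group

theorem xne : x ≠ z := fun e => (sv_props false 0 0).2.1 (by rw [← W.xπ, e, W.base.st.π_z])

theorem pr : Pr z x Q (CfsgLargeExtra.cj g Q) π (fun a => π (g⁻¹ * a * g)) M (fun a => M (g⁻¹ * a * g)) :=
  ⟨W.base.st, W.gz ▸ W.base.st.conjBy g, W.xQs.1, CfsgLargeExtra.mem_cj.mpr (by rw [W.giz]; exact W.xQs.1), W.xne⟩

/-- A second class of involutions in the centralizer of `β`. -/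
theorem exists_second : ∃ t : G, t * β = β * t ∧ t * z = z * t ∧ t * t = 1 ∧ t ≠ 1 ∧ ¬ IsConj z t := by
  have T := W.base
  have h := T.st
  have P := W.pr
  obtain ⟨s, hs, hsπ⟩ := exists_Qs h false 1
  have hsp : bf (π s) (π x) = 1 := by
    rw [hsπ, W.xπ]; exact (sv_props false 1 0).2.2.2.1 (by decide)
  obtain ⟨v0, hv0, hv0x, hv0q⟩ := pt_mid
  obtain ⟨a0, ha0, ha0π⟩ := h.π_surj v0
  have ha0x : a0 * x = x * a0 := (P.comm_x ha0).mpr (by rw [ha0π, W.xπ]; exact hv0x)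
  have ha0b : a0 * β = β * a0 := (T.cen a0 ha0).mpr (by rw [ha0π]; exact hv0)
  set b := g * a0 * g⁻¹ with hb
  have hbQ : b ∈ CfsgLargeExtra.cj g Q := conj_mem_cj ha0
  have hbz : b * z = z * b := by
    calc b * z = g * (a0 * (g⁻¹ * z * g)) * g⁻¹ := by rw [hb]; group
      _ = g * (g⁻¹ * z * g * a0) * g⁻¹ := by rw [W.giz, ha0x]
      _ = z * b := by rw [hb]; group
  have hbb : b * β = β * b := Commute.mul_left (Commute.mul_left W.gb ha0b) W.gb'
  have hqδ : qf (P.dl s b) = 1 := (F2_cases _).resolve_left fun e => by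
    have h1 := (P.sq_B hs.1 hsp hbQ hbz).mpr e
    have h2 : a0 * a0 = 1 := by
      have := congrArg (fun w => g⁻¹ * w * g) h1
      simpa [hb, mul_assoc] using this
    rw [h.sq a0 ha0, ha0π, hv0q] at h2
    exact one_ne_zero h2
  have hsb : s * b * s⁻¹ * b⁻¹ ∈ Q := by
    rw [show s * b * s⁻¹ * b⁻¹ = s * (b * s⁻¹ * b⁻¹) by group]
    exact mul_mem hs.1 (h.nor_mem hbz (inv_mem hs.1))
  have hδW : ∀ i, bf (P.dl s b) (sv true i) = 0 := (T.cen _ hsb).mp
    (Commute.mul_left (Commute.mul_left (Commute.mul_left (T.Qs_false_comm hs) hbb)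
      (Commute.inv_left (T.Qs_false_comm hs))) (Commute.inv_left hbb))
  have hδp := P.dl_perp hs.1 hbQ hbz
  rw [W.xπ] at hδp
  obtain ⟨v, hvW, hvx, hvq, hvδ⟩ := plane_partner _ hδW hδp hqδ
  obtain ⟨a, ha, haπ⟩ := h.π_surj v
  have hax : a * x = x * a := (P.comm_x ha).mpr (by rw [haπ, W.xπ]; exact hvx)
  have hab : a * β = β * a := (T.cen a ha).mpr (by rw [haπ]; exact hvW)
  have htyp : P.Typ s (a * b) :=
    ⟨a, b, ha, hax, hbQ, hbz, rfl, by rw [haπ, hvq], hqδ, by rw [haπ, hvδ]⟩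
  obtain ⟨htz, -, htt, htQ⟩ := P.cfg_props hs.1 hsp (P.typ_cfg hs.1 htyp)
  exact ⟨a * b, Commute.mul_left hab hbb, htz, htt, fun e => htQ (e ▸ one_mem _),
    P.not_conj hs.1 hsp (P.typ_cfg hs.1 htyp)⟩

end Sw

end CfsgLib.ConwayType.Five
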