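import Cfsg.Agent.Lib.ConwayType.Five.Fuse
import Cfsg.Agent.Lib.HallJankoType.Iso

/-!
Groups of Conway type: the centralizer of the element of order five, modulo that element, is of Hall–Janko type.
-/

set_option autoImplicit false
set_option linter.unusedSectionVars false
set_option maxRecDepth 20000
set_option synthInstance.maxSize 2048
set_option synthInstance.maxHeartbeats 200000

namespace CfsgLib.HallJankoType

open Equiv

universe u

variable {G : Type u} [Group G] [Finite G] {z : G} {Q : Subgroup G} {pm : G → Perm (Fin 5)}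

theorem HJ.card_group (h : HJ z Q pm) : Nat.card G = 604800 := by
  obtain ⟨x, t, t', d, Q', pm', D⟩ := exists_cyc h
  obtain ⟨M, S⟩ := D.exists_sub
  exact S.card_G

theorem HJ.isSimple (h : HJ z Q pm) : IsSimpleGroup G := by
  obtain ⟨e⟩ := iso_of_HJ h
  haveI : IsSimpleGroup Cfsg.Spor.J2 := CfsgHJ.isSimple_J2
  exact e.isSimpleGroup

end CfsgLib.HallJankoType

namespace CfsgLib.ConwayType.Five

open QuadraticMap CfsgLargeExtra Equiv
open CfsgLib.HallJankoType (mem_cent conj_fix_iff HJ)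

universe u

variable {G : Type u} [Group G] [Finite G] {z β x g : G} {Q : Subgroup G} {π : G → V} {M : G → O8}

/-- The centralizer of `β`, a map with kernel generated by `β`, and `z` in it. -/
structure Proj (z β : G) (C : Subgroup G) {X : Type u} [Group X] (f : C →* X) (zC : C) : Prop where
  mem : ∀ a, a ∈ C ↔ a * β = β * a
  surj : Function.Surjective f
  ker : ∀ a : C, f a = 1 ↔ ∃ i : ℕ, (a : G) = β ^ i
  zC : (zC : G) = z

variable {C : Subgroup G} {X : Type u} [Group X] [Finite X] {f : C →* X} {zC : C}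

namespace B5

variable (T : B5 z β Q π M)
include T

theorem pow_Q {i : ℕ} (h : β ^ i ∈ Q) : β ^ i = 1 :=
  five_one T.st h (by rw [← pow_mul, mul_comm, pow_mul, T.beta5, one_pow])

theorem pow_two_one {i : ℕ} (h : (β ^ i) ^ 2 = 1) : β ^ i = 1 := by
  have h5 : (β ^ i) ^ 5 = 1 := by rw [← pow_mul, mul_comm, pow_mul, T.beta5, one_pow]
  rwa [show (5 : ℕ) = 2 + 2 + 1 from rfl, pow_succ, pow_add, h, one_mul, one_mul] at h5

theorem M_pow_beta (i : ℕ) : prm false (M (β ^ i)) = 1 :=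
  Sd_prm_other T.st (k := true) (pow_mem T.beta_Sd i)

end B5

namespace Proj

variable (Pj : Proj z β C f zC)
include Pj

theorem eq_iff {a b : C} : f a = f b ↔ ∃ i : ℕ, (a : G) = (b : G) * β ^ i := by
  rw [show f a = f b ↔ f (b⁻¹ * a) = 1 by rw [map_mul, map_inv, inv_mul_eq_one, eq_comm], Pj.ker]
  refine exists_congr fun i => ?_
  rw [Subgroup.coe_mul, Subgroup.coe_inv, inv_mul_eq_iff_eq_mul]

/-- A chosen preimage. -/
noncomputable def rep (y : X) : C := (Pj.surj y).choose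

theorem rep_spec (y : X) : f (Pj.rep y) = y := (Pj.surj y).choose_spec

/-- The subgroup generated by the involutions in the first space. -/
noncomputable def Qb (h : ST z Q π M) (_Pj : Proj z β C f zC) : Subgroup X := ((Qs h false).subgroupOf C).map f

/-- The action on the five points. -/
noncomputable def pm (M : G → O8) (Pj : Proj z β C f zC) : X → Perm (Fin 5) := fun y => prm false (M (Pj.rep y : G))

variable (T : B5 z β Q π M)
include T

theorem mem_Qb {y : X} : y ∈ Qb T.st Pj ↔ ∃ q : C, (q : G) ∈ Qs T.st false ∧ f q = y := Iff.rfl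

theorem Qs_le : Qs T.st false ≤ C := fun _ hq => (Pj.mem _).mpr (T.Qs_false_comm hq)

theorem comm_zX (a : C) : f a * f zC = f zC * f a ↔ (a : G) * z = z * a := by
  constructor
  · intro e
    rw [← map_mul, ← map_mul] at e
    obtain ⟨i, hi⟩ := Pj.eq_iff.mp e
    rw [Subgroup.coe_mul, Subgroup.coe_mul, Pj.zC] at hi
    have hab : Commute β (a : G) := ((Pj.mem _).mp a.2).symm
    have e2 : (a : G) * z * (a : G)⁻¹ = z * β ^ i := by
      rw [hi, mul_assoc z, ← (hab.pow_left i).eq]; group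
    have hi1 : β ^ i = 1 := by
      refine T.pow_two_one ?_
      have hc : Commute z (β ^ i) := (Commute.pow_left T.bz i).symm
      have e3 : (z * β ^ i) ^ 2 = 1 := by rw [← e2, conj_pow, pow_two, T.st.zz, mul_one, mul_inv_cancel]
      rwa [hc.mul_pow, pow_two z, T.st.zz, one_mul] at e3
    rw [hi1, mul_one] at e2
    exact conj_fix_iff.mp e2
  · intro e
    rw [← map_mul, ← map_mul]
    refine congrArg f (Subtype.ext ?_)
    rw [Subgroup.coe_mul, Subgroup.coe_mul, Pj.zC, e]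

theorem rep_z {y : X} (hy : y * f zC = f zC * y) : (Pj.rep y : G) * z = z * Pj.rep y :=
  (Pj.comm_zX T _).mp (by rw [Pj.rep_spec]; exact hy)

theorem prm_congr {a b : C} (hb : (b : G) * z = z * b) (e : f a = f b) :
    prm false (M (a : G)) = prm false (M (b : G)) := by
  obtain ⟨i, hi⟩ := Pj.eq_iff.mp e
  rw [hi, T.st.M_mul _ _ hb (Commute.pow_left T.bz i),
    (prm_mul (T.cent_pre hb ((Pj.mem _).mp b.2) false)
      (Sd_pre T.st (k := true) (pow_mem T.beta_Sd i) false)).2, T.M_pow_beta, mul_one]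

theorem prm_rep {a : C} (ha : (a : G) * z = z * a) : Pj.pm M (f a) = prm false (M (a : G)) :=
  Pj.prm_congr T ha (Pj.rep_spec _)

theorem Qb_inj {a b : C} (ha : (a : G) ∈ Q) (hb : (b : G) ∈ Q) (e : f a = f b) : a = b := by
  obtain ⟨i, hi⟩ := Pj.eq_iff.mp e
  refine Subtype.ext (hi.trans ?_)
  rw [T.pow_Q (by rw [show β ^ i = (b : G)⁻¹ * a by rw [hi]; group]; exact mul_mem (inv_mem hb) ha), mul_one]

theorem es : ES (Qb T.st Pj) (f zC) where
  mem := (Pj.mem_Qb T).mpr ⟨zC, by rw [Pj.zC]; exact z_Qs T.st false, rfl⟩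
  ne e := T.st.es.ne (by
    have h1 : zC = 1 := Pj.Qb_inj T (by rw [Pj.zC]; exact T.st.es.mem) (one_mem _) (by rw [e, map_one])
    rw [← Pj.zC, h1]; rfl)
  comm y hy := by
    obtain ⟨q, hq, rfl⟩ := (Pj.mem_Qb T).mp hy
    exact (Pj.comm_zX T q).mpr (T.st.es.comm _ hq.1)
  sq y hy := by
    obtain ⟨q, hq, rfl⟩ := (Pj.mem_Qb T).mp hy
    rw [← map_mul]
    rcases T.st.es.sq _ hq.1 with e | e
    · exact Or.inl (by rw [show q * q = 1 from Subtype.ext e, map_one])
    · exact Or.inr (congrArg f (Subtype.ext (e.trans Pj.zC.symm)))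
  nor c hc y hy := by
    obtain ⟨q, hq, rfl⟩ := (Pj.mem_Qb T).mp hy
    obtain ⟨a, rfl⟩ := Pj.surj c
    refine (Pj.mem_Qb T).mpr ⟨a * q * a⁻¹, ?_, by rw [map_mul, map_mul, map_inv]⟩
    have haz := (Pj.comm_zX T a).mp hc
    exact Sd_conj_Qs T.st haz (T.cent_pre haz ((Pj.mem _).mp a.2) _) hq
  cen c hc := by
    obtain ⟨a, rfl⟩ := Pj.surj c
    have haz := (Pj.comm_zX T a).mp (hc _ ((Pj.mem_Qb T).mpr ⟨zC, by rw [Pj.zC]; exact z_Qs T.st false, rfl⟩))
    have hab := (Pj.mem _).mp a.2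
    have hq' : ∀ q ∈ Qs T.st false, (a : G) * q = q * a := by
      intro q hq
      have e := hc _ ((Pj.mem_Qb T).mpr ⟨⟨q, Pj.Qs_le T hq⟩, hq, rfl⟩)
      have e' : f (a * ⟨q, Pj.Qs_le T hq⟩ * a⁻¹) = f ⟨q, Pj.Qs_le T hq⟩ := by
        rw [map_mul, map_mul, map_inv, e, mul_inv_cancel_right]
      have := congrArg Subtype.val (Pj.Qb_inj T (T.st.nor_mem haz hq.1) hq.1 e')
      exact conj_fix_iff.mp this
    obtain ⟨b, hb, n, hn⟩ := T.cent_split haz hab
    have hbq : ∀ q ∈ Qs T.st false, b * q = q * b := fun q hq => by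
      have h1 : Commute (β ^ n) q := Commute.pow_left (T.Qs_false_comm hq).symm n
      have h2 : Commute (a : G) q := hq' q hq
      rw [show b = (a : G) * (β ^ n)⁻¹ by rw [hn]; group]
      exact (h2.mul_left h1.inv_left).eq
    have hfix : prm false (M b) = 1 := (prm_fix fun i => by
      obtain ⟨r, hr, e⟩ := exists_Qs T.st false i
      rw [← e, ← T.st.M_act b ((mem_Sd T.st).mp hb).1 r hr.1, conj_fix_iff.mpr (hbq r hr)]).2
    have hbQ := (Sd_ker T.st hb).mp hfix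
    have h0 : π b = 0 := orth_zero fun k i => by
      cases k
      · obtain ⟨r, hr, e⟩ := exists_Qs T.st false i
        rw [← e]
        exact (T.st.comm b hbQ.1 r hr.1).mp (hbq r hr)
      · exact hbQ.2 i
    have hfb : f a = f ⟨b, Pj.Qs_le T hbQ⟩ := Pj.eq_iff.mpr ⟨n, hn⟩
    rw [hfb]
    rcases T.st.π_ker b hbQ.1 h0 with e | e
    · exact Or.inl ((congrArg f (show (⟨b, Pj.Qs_le T hbQ⟩ : C) = 1 from Subtype.ext e)).trans (map_one f))
    · exact Or.inr (congrArg f (Subtype.ext (e.trans Pj.zC.symm)))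

theorem card_Qb : Nat.card ↥(Qb T.st Pj) = 32 := by
  rw [← card_Qs T.st false]
  refine (Nat.card_eq_of_bijective (fun q : ↥(Qs T.st false) => (⟨f ⟨q, Pj.Qs_le T q.2⟩,
    (Pj.mem_Qb T).mpr ⟨_, q.2, rfl⟩⟩ : ↥(Qb T.st Pj))) ⟨fun p q e => ?_, fun y => ?_⟩).symm
  · exact Subtype.ext (congrArg (fun a : C => (a : G)) (Pj.Qb_inj T p.2.1 q.2.1 (congrArg Subtype.val e)))
  · obtain ⟨q, hq, e⟩ := (Pj.mem_Qb T).mp y.2
    exact ⟨⟨q, hq⟩, Subtype.ext e⟩

theorem pm_mul {a b : X} (ha : a * f zC = f zC * a) (hb : b * f zC = f zC * b) :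
    Pj.pm M (a * b) = Pj.pm M a * Pj.pm M b := by
  have ha' := Pj.rep_z T ha
  have hb' := Pj.rep_z T hb
  have h := Pj.prm_rep T (a := Pj.rep a * Pj.rep b) (Commute.mul_left ha' hb')
  rw [map_mul, Pj.rep_spec, Pj.rep_spec] at h
  rw [h, Subgroup.coe_mul, T.st.M_mul _ _ ha' hb']
  exact (prm_mul (T.cent_pre ha' ((Pj.mem _).mp (Pj.rep a).2) _) (T.cent_pre hb' ((Pj.mem _).mp (Pj.rep b).2) _)).2

theorem pm_sign {a : X} (ha : a * f zC = f zC * a) : Perm.sign (Pj.pm M a) = 1 := by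
  have ha' := Pj.rep_z T ha
  obtain ⟨b, hb, n, hn⟩ := T.cent_split ha' ((Pj.mem _).mp (Pj.rep a).2)
  show Perm.sign (prm false (M (Pj.rep a : G))) = 1
  rw [hn, T.st.M_mul _ _ ((mem_Sd T.st).mp hb).1 (Commute.pow_left T.bz n),
    (prm_mul (Sd_pre T.st hb false) (Sd_pre T.st (k := true) (pow_mem T.beta_Sd n) false)).2, T.M_pow_beta, mul_one]
  exact Sd_sign T.st hb

theorem pm_surj {σ : Perm (Fin 5)} (hσ : Perm.sign σ = 1) : ∃ a : X, a * f zC = f zC * a ∧ Pj.pm M a = σ := by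
  obtain ⟨b, hb, e⟩ := Sd_surj T.st false hσ
  have hbC : b ∈ C := (Pj.mem _).mpr (T.Sd_false_comm hb)
  have hbz := ((mem_Sd T.st).mp hb).1
  exact ⟨f ⟨b, hbC⟩, (Pj.comm_zX T _).mpr hbz, by rw [Pj.prm_rep T (a := ⟨b, hbC⟩) hbz]; exact e⟩

theorem pm_ker {a : X} (ha : a * f zC = f zC * a) : Pj.pm M a = 1 ↔ a ∈ Qb T.st Pj := by
  constructor
  · intro e
    have ha' := Pj.rep_z T ha
    obtain ⟨b, hb, n, hn⟩ := T.cent_split ha' ((Pj.mem _).mp (Pj.rep a).2)
    have hbC : b ∈ C := (Pj.mem _).mpr (T.Sd_false_comm hb)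
    have hfb : f ⟨b, hbC⟩ = a := by
      rw [← Pj.rep_spec a]
      exact (Pj.eq_iff.mpr ⟨n, hn⟩).symm
    refine (Pj.mem_Qb T).mpr ⟨⟨b, hbC⟩, (Sd_ker T.st hb).mp ?_, hfb⟩
    rw [← hfb, Pj.prm_rep T (a := ⟨b, hbC⟩) ((mem_Sd T.st).mp hb).1] at e
    exact e
  · intro h
    obtain ⟨q, hq, rfl⟩ := (Pj.mem_Qb T).mp h
    rw [Pj.prm_rep T (T.st.es.comm _ hq.1)]
    exact (Sd_ker T.st (Qs_le_Sd T.st _ hq)).mpr hq

end Proj

namespace Sw

variable (W : Sw z β x g Q π M) (Pj : Proj z β C f zC)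
include W Pj

theorem x_mem : x ∈ C := Proj.Qs_le Pj W.base W.xQs

theorem g_mem : g ∈ C := (Pj.mem _).mpr W.gb

/-- The quotient of the centralizer is of Hall–Janko type. -/
theorem hj : HJ (f zC) (Proj.Qb W.base.st Pj) (Pj.pm M) where
  es := Pj.es W.base
  card := Pj.card_Qb W.base
  pm_mul _ _ ha hb := Pj.pm_mul W.base ha hb
  pm_sign _ ha := Pj.pm_sign W.base ha
  pm_surj _ hσ := Pj.pm_surj W.base hσ
  pm_ker _ ha := Pj.pm_ker W.base ha
  fused := by
    have e : f ⟨g, W.g_mem Pj⟩ * f zC * (f ⟨g, W.g_mem Pj⟩)⁻¹ = f ⟨x, W.x_mem Pj⟩ := by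
      rw [← map_inv, ← map_mul, ← map_mul]
      refine congrArg f (Subtype.ext ?_)
      rw [Subgroup.coe_mul, Subgroup.coe_mul, Pj.zC, Subgroup.coe_inv]
      exact W.gz
    refine ⟨f ⟨g, W.g_mem Pj⟩, ?_, ?_⟩ <;> rw [e]
    · exact (Pj.mem_Qb W.base).mpr ⟨_, W.xQs, rfl⟩
    · exact fun e' => W.xne ((congrArg (fun a : C => (a : G))
        (Pj.Qb_inj W.base W.xQs.1 (by rw [Pj.zC]; exact W.base.st.es.mem) e')).trans Pj.zC)
  classes := by
    obtain ⟨t, htb, htz, htt, ht1, htn⟩ := W.exists_second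
    have hz1 : f zC ≠ 1 := (Pj.es W.base).ne
    have htC : t ∈ C := (Pj.mem _).mpr htb
    refine ⟨f zC, f ⟨t, htC⟩, orderOf_eq_prime (by rw [pow_two]; exact (Pj.es W.base).zz) hz1,
      orderOf_eq_prime (by rw [← map_pow, show (⟨t, htC⟩ : C) ^ 2 = 1 from Subtype.ext (by
        rw [Subgroup.coe_pow, pow_two]; exact htt), map_one]) fun e => ?_, fun hc => htn ?_⟩
    · obtain ⟨i, hi⟩ := (Pj.ker _).mp e
      exact ht1 (hi.trans (W.base.pow_two_one (by rw [← hi, pow_two]; exact htt)))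
    · obtain ⟨c, hc⟩ := isConj_iff.mp hc
      obtain ⟨a, rfl⟩ := Pj.surj c
      rw [← map_inv, ← map_mul, ← map_mul] at hc
      obtain ⟨i, hi⟩ := Pj.eq_iff.mp hc
      rw [Subgroup.coe_mul, Subgroup.coe_mul, Pj.zC, Subgroup.coe_inv] at hi
      have hi1 : β ^ i = 1 := by
        refine W.base.pow_two_one ?_
        have h2 : ((a : G) * z * (a : G)⁻¹) ^ 2 = 1 := by rw [conj_pow, pow_two, W.base.st.zz, mul_one, mul_inv_cancel]
        rwa [hi, (Commute.pow_right (show Commute t β from htb) i).mul_pow, pow_two t, htt, one_mul] at h2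
      refine isConj_iff.mpr ⟨a, ?_⟩
      rw [hi1, mul_one] at hi
      exact hi

theorem x_sq : f ⟨x, W.x_mem Pj⟩ * f ⟨x, W.x_mem Pj⟩ = 1 := by
  rw [← map_mul, show (⟨x, W.x_mem Pj⟩ : C) * ⟨x, W.x_mem Pj⟩ = 1 from Subtype.ext W.xx, map_one]

/-- The centralizers of the two involutions generate. -/
theorem generate : Subgroup.centralizer ({f zC} : Set X) ⊔ Subgroup.centralizer ({f ⟨x, W.x_mem Pj⟩} : Set X) = ⊤ := by
  classical
  have h := W.hj Pj
  set xX := f ⟨x, W.x_mem Pj⟩ with hxX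
  set Y := Subgroup.centralizer ({f zC} : Set X) ⊔ Subgroup.centralizer ({xX} : Set X) with hY
  have hzY : ∀ {a : X}, a * f zC = f zC * a → a ∈ Y := fun ha => Subgroup.mem_sup_left (mem_cent.mpr ha)
  have hxY : ∀ {a : X}, a * xX = xX * a → a ∈ Y := fun ha => Subgroup.mem_sup_right (mem_cent.mpr ha)
  have hzmem : f zC ∈ Y := hzY rfl
  have hQY : Proj.Qb W.base.st Pj ≤ Y := fun a ha => hzY (h.es.comm a ha)
  -- an element of `Y` moving `z` to `x`
  obtain ⟨s, hs, hsπ⟩ := exists_Qs W.base.st false 1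
  have hsx : s * x * s⁻¹ = x * z := by
    rw [W.base.st.conj_Q hs.1 W.xQs.1, if_neg]
    rw [hsπ, W.xπ, (sv_props false 1 0).2.2.2.1 (by decide)]
    exact one_ne_zero
  have hsz := W.base.st.es.comm s hs.1
  have hsC : s ∈ C := Proj.Qs_le Pj W.base hs
  set c := g * s * g⁻¹ with hc
  have hcC : c ∈ C := mul_mem (mul_mem (W.g_mem Pj) hsC) (inv_mem (W.g_mem Pj))
  have hcz : c * z * c⁻¹ = z * x := by
    calc c * z * c⁻¹ = g * (s * (g⁻¹ * z * g) * s⁻¹) * g⁻¹ := by rw [hc]; group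
      _ = g * (x * z) * g⁻¹ := by rw [W.giz, hsx]
      _ = g * x * g⁻¹ * (g * z * g⁻¹) := by group
      _ = z * x := by rw [W.gx, W.gz]
  have hcx : c * x = x * c := by
    calc c * x = g * (s * (g⁻¹ * x * g)) * g⁻¹ := by rw [hc]; group
      _ = g * (g⁻¹ * x * g * s) * g⁻¹ := by rw [W.gix, hsz]
      _ = x * c := by rw [hc]; group
  have hmove : s⁻¹ * c * z * (s⁻¹ * c)⁻¹ = x := by
    rw [show s⁻¹ * c * z * (s⁻¹ * c)⁻¹ = s⁻¹ * (c * z * c⁻¹) * s by group, hcz]
    have e1 : s⁻¹ * z = z * s⁻¹ := Commute.inv_left hsz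
    have e2 : s⁻¹ * x * s = x * z := by
      have h1 : s⁻¹ * (x * z) * s = x := by rw [← hsx]; group
      have h2 : s⁻¹ * (x * z) * s = s⁻¹ * x * s * z := by
        rw [show s⁻¹ * (x * z) * s = s⁻¹ * x * (z * s) by group, ← hsz]; group
      rw [h2] at h1
      calc s⁻¹ * x * s = s⁻¹ * x * s * (z * z) := by rw [W.base.st.zz, mul_one]
        _ = s⁻¹ * x * s * z * z := (mul_assoc _ _ _).symm
        _ = x * z := by rw [h1]
    calc s⁻¹ * (z * x) * s = (s⁻¹ * z) * x * s := by group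
      _ = z * (s⁻¹ * x * s) := by rw [e1]; group
      _ = z * (x * z) := by rw [e2]
      _ = x * (z * z) := by rw [← mul_assoc, ← mul_assoc, (W.base.st.es.comm x W.xQs.1).symm]
      _ = x := by rw [W.base.st.zz, mul_one]
  set mC : C := ⟨s⁻¹ * c, mul_mem (inv_mem hsC) hcC⟩ with hm
  have hmY : f mC ∈ Y := by
    rw [show mC = (⟨s, hsC⟩ : C)⁻¹ * ⟨c, hcC⟩ from rfl, map_mul, map_inv]
    refine mul_mem (inv_mem (hzY ((Pj.comm_zX W.base _).mpr hsz))) (hxY ?_)
    rw [hxX, ← map_mul, ← map_mul]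
    exact congrArg f (Subtype.ext hcx)
  have hmX : f mC * f zC * (f mC)⁻¹ = xX := by
    rw [← map_inv, ← map_mul, ← map_mul]
    refine congrArg f (Subtype.ext ?_)
    rw [Subgroup.coe_mul, Subgroup.coe_mul, Pj.zC, Subgroup.coe_inv]
    exact hmove
  -- the same data in `Y`
  let zY : Y := ⟨f zC, hzmem⟩
  have hback : ∀ {a : X} (ha : a ∈ Y), (⟨a, ha⟩ : Y) * zY = zY * ⟨a, ha⟩ ↔ a * f zC = f zC * a := fun ha => by
    rw [Subtype.ext_iff, Subgroup.coe_mul, Subgroup.coe_mul]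
  have hes : ES ((Proj.Qb W.base.st Pj).subgroupOf Y) zY := by
    refine ⟨h.es.mem, fun e => h.es.ne (congrArg Subtype.val e), fun q hq => Subtype.ext (h.es.comm _ hq),
      fun q hq => ?_, fun a ha => ?_, fun a ha q hq => ?_⟩
    · rcases h.es.sq _ hq with e | e
      · exact Or.inl (Subtype.ext e)
      · exact Or.inr (Subtype.ext e)
    · rcases h.es.cen a.1 (fun q hq => congrArg Subtype.val (ha ⟨q, hQY hq⟩ hq)) with e | e
      · exact Or.inl (Subtype.ext e)
      · exact Or.inr (Subtype.ext e)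
    · exact h.es.nor a.1 (congrArg Subtype.val ha) _ hq
  obtain ⟨t, htb, htz, htt, ht1, htn⟩ := W.exists_second
  have hY' : HJ zY ((Proj.Qb W.base.st Pj).subgroupOf Y) (fun a => Pj.pm M (a : X)) := by
    refine ⟨hes, ?_, fun a b ha hb => h.pm_mul _ _ (congrArg Subtype.val ha) (congrArg Subtype.val hb),
      fun a ha => h.pm_sign _ (congrArg Subtype.val ha), fun σ hσ => ?_,
      fun a ha => (h.pm_ker _ (congrArg Subtype.val ha)).trans Subgroup.mem_subgroupOf.symm,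
      ⟨⟨f mC, hmY⟩, ?_, ?_⟩, ?_⟩
    · rw [Nat.card_congr (Subgroup.subgroupOfEquivOfLe hQY).toEquiv, h.card]
    · obtain ⟨a, ha, e⟩ := h.pm_surj σ hσ
      exact ⟨⟨a, hzY ha⟩, Subtype.ext ha, e⟩
    · show f mC * f zC * (f mC)⁻¹ ∈ Proj.Qb W.base.st Pj
      rw [hmX]
      exact (Pj.mem_Qb W.base).mpr ⟨_, W.xQs, rfl⟩
    · intro e
      have e' : xX = f zC := hmX.symm.trans (congrArg Subtype.val e)
      exact W.xne ((congrArg (fun a : C => (a : G))
        (Pj.Qb_inj W.base W.xQs.1 (by rw [Pj.zC]; exact W.base.st.es.mem) e')).trans Pj.zC)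
    · have htC : t ∈ C := (Pj.mem _).mpr htb
      have htY : f ⟨t, htC⟩ ∈ Y := hzY ((Pj.comm_zX W.base _).mpr htz)
      have ho : orderOf (f ⟨t, htC⟩) = 2 := by
        refine orderOf_eq_prime ?_ fun e => ?_
        · rw [← map_pow, show (⟨t, htC⟩ : C) ^ 2 = 1 from Subtype.ext (by
            rw [Subgroup.coe_pow, pow_two]; exact htt), map_one]
        · obtain ⟨i, hi⟩ := (Pj.ker _).mp e
          exact ht1 (hi.trans (W.base.pow_two_one (by rw [← hi, pow_two]; exact htt)))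
      refine ⟨zY, ⟨_, htY⟩, (Subgroup.orderOf_coe zY).symm.trans h.hz, (Subgroup.orderOf_coe _).symm.trans ho,
        fun hc => htn ?_⟩
      obtain ⟨c', hc'⟩ := isConj_iff.mp hc
      have hc'' := congrArg Subtype.val hc'
      obtain ⟨a, ha⟩ := Pj.surj (c' : X)
      rw [Subgroup.coe_mul, Subgroup.coe_mul, Subgroup.coe_inv, ← ha, ← map_inv, ← map_mul, ← map_mul] at hc''
      obtain ⟨i, hi⟩ := Pj.eq_iff.mp hc''
      rw [Subgroup.coe_mul, Subgroup.coe_mul, Pj.zC, Subgroup.coe_inv] at hi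
      have hi1 : β ^ i = 1 := by
        refine W.base.pow_two_one ?_
        have h2 : ((a : G) * z * (a : G)⁻¹) ^ 2 = 1 := by rw [conj_pow, pow_two, W.base.st.zz, mul_one, mul_inv_cancel]
        rwa [hi, (Commute.pow_right (show Commute t β from htb) i).mul_pow, pow_two t, htt, one_mul] at h2
      refine isConj_iff.mpr ⟨a, ?_⟩
      rw [hi1, mul_one] at hi
      exact hi
  exact Subgroup.eq_top_of_card_eq _ (hY'.card_group.trans h.card_group.symm)

end Sw

end CfsgLib.ConwayType.Five
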