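import Cfsg.Agent.Lib.ConwayType.Five.Coord
import Cfsg.Agent.Lib.ConwayType.Pair

/-!
Groups of Conway type: the central product of the two subgroups `2^{1+4}.A5` in the centralizer of the involution.
-/

set_option autoImplicit false
set_option linter.unusedSectionVars false
set_option maxRecDepth 20000
set_option synthInstance.maxSize 2048
set_option synthInstance.maxHeartbeats 200000

namespace CfsgLib.ConwayType

open QuadraticMap CfsgLargeExtra Equiv
open CfsgLib.HallJankoType (mem_cent conj_fix_iff)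

universe u

variable {G : Type u} [Group G] [Finite G] {z : G} {Q : Subgroup G} {π : G → V} {M : G → O8}

/-- Changing coordinates by an isometry. -/
theorem ST.twist (h : ST z Q π M) (g : O8) : ST z Q (fun a => g.1 (π a)) (fun c => g * M c * g⁻¹) where
  es := h.es
  card := h.card
  π_mul a ha b hb := by simp only [h.π_mul a ha b hb, map_add]
  π_ker a ha e := h.π_ker a ha (g.1.map_eq_zero_iff.mp e)
  π_surj v := by
    obtain ⟨a, ha, e⟩ := h.π_surj (g.1.symm v)
    exact ⟨a, ha, by simp [e]⟩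
  sq a ha := by rw [h.sq a ha, g.2 (π a)]
  comm a ha b hb := by
    rw [h.comm a ha b hb]
    exact Eq.congr_left (bf_map g _ _).symm
  M_mul a b ha hb := by rw [h.M_mul a b ha hb]; group
  M_act c hc a ha := by
    show g.1 (π (c * a * c⁻¹)) = g.1 ((M c).1 (g.1.symm (g.1 (π a))))
    rw [h.M_act c hc a ha, LinearEquiv.symm_apply_apply]
  M_ker c hc := by rw [conj_eq_one_iff, h.M_ker c hc]
  M_mem c hc := (Subgroup.Normal.conj_mem inferInstance _ (h.M_mem c hc) g)
  M_surj k hk := by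
    obtain ⟨c, hc, e⟩ := h.M_surj (g⁻¹ * k * g⁻¹⁻¹) (Subgroup.Normal.conj_mem inferInstance _ hk g⁻¹)
    exact ⟨c, hc, by rw [e]; group⟩
  fused := h.fused

namespace Five

/-- The lifts of one of the two spaces. -/
def Qs (h : ST z Q π M) (k : Bool) : Subgroup G where
  carrier := {q | q ∈ Q ∧ ∀ i, bf (π q) (sv (!k) i) = 0}
  one_mem' := ⟨one_mem _, fun i => by rw [h.π_one, bf_zero_left]⟩
  mul_mem' := fun {a b} ha hb => ⟨mul_mem ha.1 hb.1, fun i => by
    rw [h.π_mul a ha.1 b hb.1, bf_add_left, ha.2, hb.2, add_zero]⟩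
  inv_mem' := fun {a} ha => ⟨inv_mem ha.1, fun i => by rw [h.π_inv ha.1, ha.2]⟩

/-- The centralizer in `C(z)` of the lifts of the other space. -/
def Sd (h : ST z Q π M) (k : Bool) : Subgroup G :=
  Subgroup.centralizer ({z} : Set G) ⊓ Subgroup.centralizer (Qs h (!k) : Set G)

variable (h : ST z Q π M)
include h

theorem mem_Qs {k : Bool} {q : G} : q ∈ Qs h k ↔ q ∈ Q ∧ ∀ i, bf (π q) (sv (!k) i) = 0 := Iff.rfl

theorem mem_Sd {k : Bool} {c : G} : c ∈ Sd h k ↔ c * z = z * c ∧ ∀ q ∈ Qs h (!k), c * q = q * c :=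
  Subgroup.mem_inf.trans (and_congr mem_cent (Subgroup.mem_centralizer_iff.trans
    ⟨fun e q hq => (e q hq).symm, fun e q hq => (e q hq).symm⟩))

theorem z_Qs (k : Bool) : z ∈ Qs h k := ⟨h.es.mem, fun i => by rw [h.π_z, bf_zero_left]⟩

theorem exists_Qs (k : Bool) (i : Fin 5) : ∃ q ∈ Qs h k, π q = sv k i := by
  obtain ⟨q, hq, e⟩ := h.π_surj (sv k i)
  exact ⟨q, ⟨hq, fun j => by rw [e]; exact (sv_props k i j).2.2.1⟩, e⟩

theorem Qs_le_Sd (k : Bool) : Qs h k ≤ Sd h k := fun q hq =>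
  (mem_Sd h).mpr ⟨h.es.comm q hq.1, fun r hr => (h.comm q hq.1 r hr.1).mpr (orth_sides hq.2
    (fun i => by simpa using hr.2 i))⟩

theorem Q_inter_Sd {k : Bool} {q : G} (hq : q ∈ Q) : q ∈ Sd h k ↔ q ∈ Qs h k := by
  refine ⟨fun hs => ⟨hq, fun i => ?_⟩, fun hs => Qs_le_Sd h k hs⟩
  obtain ⟨r, hr, e⟩ := exists_Qs h (!k) i
  rw [← e]
  exact (h.comm q hq r hr.1).mp (((mem_Sd h).mp hs).2 r hr)

theorem Sd_fix {k : Bool} {c : G} (hc : c ∈ Sd h k) (i : Fin 5) : (M c).1 (sv (!k) i) = sv (!k) i := by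
  obtain ⟨hcz, hcq⟩ := (mem_Sd h).mp hc
  obtain ⟨r, hr, e⟩ := exists_Qs h (!k) i
  rw [← e, ← h.M_act c hcz r hr.1, conj_fix_iff.mpr (hcq r hr)]

theorem Sd_pre {k : Bool} {c : G} (hc : c ∈ Sd h k) : ∀ b, Pre b (M c) := fun b => by
  have hp : Pre (!k) (M c) := (prm_fix (Sd_fix h hc)).1
  rcases Bool.eq_or_eq_not b k with rfl | rfl
  exacts [hp.other, hp]

theorem Sd_prm_other {k : Bool} {c : G} (hc : c ∈ Sd h k) : prm (!k) (M c) = 1 := (prm_fix (Sd_fix h hc)).2

theorem Sd_sign {k : Bool} {c : G} (hc : c ∈ Sd h k) : Perm.sign (prm k (M c)) = 1 := by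
  have h1 := (mem_Om_iff (Sd_pre h hc)).mp (h.M_mem c ((mem_Sd h).mp hc).1)
  have h2 := Sd_prm_other h hc
  cases k <;> simp only [Bool.not_false, Bool.not_true] at h2 <;> simp [h2] at h1 <;> simp [h1]

theorem Sd_mul {k : Bool} {a b : G} (ha : a ∈ Sd h k) (hb : b ∈ Sd h k) :
    prm k (M (a * b)) = prm k (M a) * prm k (M b) := by
  rw [h.M_mul a b ((mem_Sd h).mp ha).1 ((mem_Sd h).mp hb).1]
  exact (prm_mul (Sd_pre h ha k) (Sd_pre h hb k)).2

theorem Sd_ker {k : Bool} {c : G} (hc : c ∈ Sd h k) : prm k (M c) = 1 ↔ c ∈ Qs h k := by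
  constructor
  · intro e
    refine (Q_inter_Sd h ((h.M_ker c ((mem_Sd h).mp hc).1).mp ?_)).mp hc
    refine ext_prm (Sd_pre h hc) (fun b => (prm_one b).1) fun b => ?_
    rw [(prm_one b).2]
    rcases Bool.eq_or_eq_not b k with rfl | rfl
    exacts [e, Sd_prm_other h hc]
  · intro hq
    rw [h.M_Q hq.1]
    exact (prm_one k).2

/-- An element fixing the generators of the lifts of a side centralizes them. -/
theorem cent_of_gens {k : Bool} {c : G} (hc : c * z = z * c)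
    (hg : ∀ i : Fin 4, ∃ q ∈ Qs h k, π q = sv k i.castSucc ∧ c * q = q * c) : ∀ q ∈ Qs h k, c * q = q * c := by
  set A := Qs h k ⊓ Subgroup.centralizer ({c} : Set G) with hA
  have hmem : ∀ {a}, a ∈ A ↔ a ∈ Qs h k ∧ a * c = c * a := Subgroup.mem_inf.trans (and_congr Iff.rfl mem_cent)
  have hzA : z ∈ A := hmem.mpr ⟨z_Qs h k, hc.symm⟩
  let T : Set V := {v | ∃ a ∈ A, π a = v}
  have hadd : ∀ {u v}, u ∈ T → v ∈ T → u + v ∈ T := by
    rintro u v ⟨a, ha, rfl⟩ ⟨b, hb, rfl⟩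
    exact ⟨a * b, mul_mem ha hb, h.π_mul a (hmem.mp ha).1.1 b (hmem.mp hb).1.1⟩
  have h0 : (0 : V) ∈ T := ⟨1, one_mem _, h.π_one⟩
  have h4 : ∀ i : Fin 4, sv k i.castSucc ∈ T := fun i => by
    obtain ⟨q, hq, e, hcq⟩ := hg i
    exact ⟨q, hmem.mpr ⟨hq, hcq.symm⟩, e⟩
  have hall : ∀ (r : F2) i, r • sv k i ∈ T := by
    intro r i
    rcases F2_cases r with rfl | rfl
    · rw [zero_smul]; exact h0
    rw [one_smul]
    induction i using Fin.lastCases with
    | cast i => exact h4 i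
    | last =>
      rw [show (Fin.last 4) = (4 : Fin 5) from rfl, sv_last]
      exact hadd (hadd (hadd (h4 0) (h4 1)) (h4 2)) (h4 3)
  intro q hq
  have hv : π q ∈ T := by
    rw [sv_expand (π q)]
    have hz' : ∀ i, bf (π q) (sv (!k) i) • sv (!k) i = 0 := fun i => by rw [hq.2 i, zero_smul]
    cases k
    · simp only [Bool.not_false] at hz'
      simp only [hz', add_zero]
      exact hadd (hadd (hadd (hadd (hall _ _) (hall _ _)) (hall _ _)) (hall _ _)) (hall _ _)
    · simp only [Bool.not_true] at hz'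
      simp only [hz', add_zero, zero_add]
      exact hadd (hadd (hadd (hadd (hall _ _) (hall _ _)) (hall _ _)) (hall _ _)) (hall _ _)
  obtain ⟨a, ha, e⟩ := hv
  rcases h.π_eq (hmem.mp ha).1.1 hq.1 e with rfl | rfl
  · exact (hmem.mp ha).2.symm
  · exact (hmem.mp (mul_mem ha hzA)).2.symm

/-- Every even permutation of one side is realised. -/
theorem Sd_surj (k : Bool) {σ : Perm (Fin 5)} (hσ : Perm.sign σ = 1) : ∃ c ∈ Sd h k, prm k (M c) = σ := by
  obtain ⟨g, g1, g2, g3⟩ := exists_one k σ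
  obtain ⟨c, hc, hM⟩ := h.M_surj g (g3.mpr hσ)
  choose r hr her using fun i : Fin 4 => exists_Qs h (!k) i.castSucc
  have hci : ∀ i, c * r i * c⁻¹ = r i ∨ c * r i * c⁻¹ = r i * z := fun i =>
    h.π_eq (hr i).1 (h.nor_mem hc (hr i).1) (by rw [h.M_act c hc _ (hr i).1, hM, her, g2])
  classical
  let ε : Fin 4 → F2 := fun i => if c * r i * c⁻¹ = r i then 0 else 1
  obtain ⟨v, -, v0, v1, v2, v3⟩ := sv_dual k (ε 0) (ε 1) (ε 2) (ε 3)
  obtain ⟨w, hw, rfl⟩ := h.π_surj v
  have hwε : ∀ i : Fin 4, bf (π w) (π (r i)) = ε i := fun i => by rw [her]; fin_cases i <;> assumption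
  have hwz := h.es.comm w hw
  refine ⟨c * w, (mem_Sd h).mpr ⟨Commute.mul_left hc hwz,
    cent_of_gens h (Commute.mul_left hc hwz) fun i => ⟨r i, hr i, her i, conj_fix_iff.mp ?_⟩⟩, ?_⟩
  · rw [show c * w * r i * (c * w)⁻¹ = c * (w * r i * w⁻¹) * c⁻¹ by group, h.conj_Q hw (hr i).1, hwε i]
    by_cases e : c * r i * c⁻¹ = r i
    · rw [show ε i = 0 from if_pos e, if_pos rfl, e]
    · rw [show ε i = 1 from if_neg e, if_neg one_ne_zero,
        show c * (r i * z) * c⁻¹ = c * r i * c⁻¹ * (c * z * c⁻¹) by group, (hci i).resolve_left e,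
        conj_fix_iff.mpr hc, mul_assoc, h.zz, mul_one]
  · rw [h.M_mul c w hc hwz, h.M_Q hw, mul_one, hM]
    exact (prm_eq g1).2

theorem Sd_conj_Qs {k : Bool} {c q : G} (hc : c * z = z * c) (hp : Pre (!k) (M c)) (hq : q ∈ Qs h k) :
    c * q * c⁻¹ ∈ Qs h k := by
  refine ⟨h.nor_mem hc hq.1, fun j => ?_⟩
  obtain ⟨j', rfl⟩ := (prm (!k) (M c)).surjective j
  rw [h.M_act c hc q hq.1, ← prm_spec hp, bf_map, hq.2]

theorem Sd_conj {k : Bool} {c a : G} (hc : c * z = z * c) (hp : ∀ b, Pre b (M c)) (ha : a ∈ Sd h k) :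
    c * a * c⁻¹ ∈ Sd h k := by
  obtain ⟨haz, haq⟩ := (mem_Sd h).mp ha
  refine (mem_Sd h).mpr ⟨Commute.mul_left (Commute.mul_left hc haz) (Commute.inv_left hc), fun q hq => ?_⟩
  have h1 : c⁻¹ * q * c ∈ Qs h (!k) := by
    have := Sd_conj_Qs h (k := !k) (c := c⁻¹) (q := q) (Commute.inv_left hc)
      (by rw [h.M_inv hc]; exact (prm_inv (hp _)).1) hq
    rwa [inv_inv] at this
  calc c * a * c⁻¹ * q = c * (a * (c⁻¹ * q * c)) * c⁻¹ := by group
    _ = c * ((c⁻¹ * q * c) * a) * c⁻¹ := by rw [haq _ h1]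
    _ = _ := by group

/-- The two sides commute. -/
theorem Sd_comm {k : Bool} {a b : G} (ha : a ∈ Sd h k) (hb : b ∈ Sd h (!k)) : a * b = b * a := by
  have haz := ((mem_Sd h).mp ha).1
  have key : ∀ y ∈ Sd h (!k), a * y * a⁻¹ * y⁻¹ = 1 ∨ a * y * a⁻¹ * y⁻¹ = z := by
    intro y hy
    have hyz := ((mem_Sd h).mp hy).1
    have hM : M a * M y = M y * M a := by
      refine ext_prm (fun b => (prm_mul (Sd_pre h ha b) (Sd_pre h hy b)).1)
        (fun b => (prm_mul (Sd_pre h hy b) (Sd_pre h ha b)).1) fun b => ?_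
      rw [(prm_mul (Sd_pre h ha b) (Sd_pre h hy b)).2, (prm_mul (Sd_pre h hy b) (Sd_pre h ha b)).2]
      rcases Bool.eq_or_eq_not b k with rfl | rfl
      · have := Sd_prm_other h hy
        rw [Bool.not_not] at this
        rw [this, mul_one, one_mul]
      · rw [Sd_prm_other h ha, mul_one, one_mul]
    have hQ : a * y * a⁻¹ * y⁻¹ ∈ Q := by
      refine (h.M_ker _ (Commute.mul_left (Commute.mul_left (Commute.mul_left haz hyz)
        (Commute.inv_left haz)) (Commute.inv_left hyz))).mp ?_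
      rw [h.M_mul _ _ (Commute.mul_left (Commute.mul_left haz hyz) (Commute.inv_left haz)) (Commute.inv_left hyz),
        h.M_mul _ _ (Commute.mul_left haz hyz) (Commute.inv_left haz), h.M_mul _ _ haz hyz, h.M_inv haz, h.M_inv hyz,
        hM]
      group
    have h1 : a * y * a⁻¹ * y⁻¹ ∈ Qs h (!k) :=
      (Q_inter_Sd h hQ).mp (mul_mem (Sd_conj h haz (Sd_pre h ha) hy) (inv_mem hy))
    have h2 : a * y * a⁻¹ * y⁻¹ ∈ Qs h k := (Q_inter_Sd h hQ).mp (by
      rw [show a * y * a⁻¹ * y⁻¹ = a * (y * a⁻¹ * y⁻¹) by group]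
      exact mul_mem ha (Sd_conj h hyz (Sd_pre h hy) (inv_mem ha)))
    refine h.π_ker _ hQ (orth_zero fun b i => ?_)
    rcases Bool.eq_or_eq_not b k with rfl | rfl
    · simpa using h1.2 i
    · exact h2.2 i
  set A := Sd h (!k) ⊓ Subgroup.centralizer ({a} : Set G)
  suffices b ∈ A from (mem_cent.mp this.2).symm
  have hsq : ∀ y ∈ Sd h (!k), y * y ∈ A := by
    intro y hy
    refine ⟨mul_mem hy hy, mem_cent.mpr ?_⟩
    have hyz := ((mem_Sd h).mp hy).1
    rcases key y hy with e | e <;> rw [mul_inv_eq_iff_eq_mul, mul_inv_eq_iff_eq_mul] at e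
    · rw [one_mul] at e
      exact (Commute.mul_left e.symm e.symm : Commute (y * y) a).eq
    · symm
      calc a * (y * y) = a * y * y := (mul_assoc _ _ _).symm
        _ = z * y * a * y := by rw [e]
        _ = z * y * (a * y) := by group
        _ = z * (y * z) * (y * a) := by rw [e]; group
        _ = z * z * (y * y * a) := by rw [hyz]; group
        _ = y * y * a := by rw [h.zz, one_mul]
  have hQs : ∀ q ∈ Qs h (!k), q ∈ A := fun q hq =>
    ⟨Qs_le_Sd h _ hq, mem_cent.mpr (((mem_Sd h).mp ha).2 q hq).symm⟩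
  obtain ⟨σ, τ, hσ, hτ, he⟩ := even_squares _ (Sd_sign h hb)
  obtain ⟨c, hc, rfl⟩ := Sd_surj h (!k) hσ
  obtain ⟨d, hd, rfl⟩ := Sd_surj h (!k) hτ
  have hm : c * c * (d * d) ∈ A := mul_mem (hsq c hc) (hsq d hd)
  rw [← mul_inv_cancel_left (c * c * (d * d)) b]
  refine mul_mem hm (hQs _ ((Sd_ker h (mul_mem (inv_mem hm.1) hb)).mp ?_))
  have h1 := Sd_mul h hm.1 (mul_mem (inv_mem hm.1) hb)
  rw [mul_inv_cancel_left, Sd_mul h (mul_mem hc hc) (mul_mem hd hd), Sd_mul h hc hc, Sd_mul h hd hd, ← he] at h1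
  exact mul_eq_left.mp h1.symm

theorem card_Qs (k : Bool) : Nat.card ↥(Qs h k) = 32 := by
  classical
  choose r hrQ hr using h.π_surj
  let T := {v : V // ∀ i, bf v (sv (!k) i) = 0}
  have hT : Nat.card T = 16 := by
    rw [Nat.card_eq_fintype_card, Fintype.card_subtype]
    exact sv_count (!k)
  let F : T × Bool → ↥(Qs h k) := fun w => ⟨r w.1.1 * (if w.2 then z else 1),
    mul_mem ⟨hrQ _, fun i => by rw [hr]; exact w.1.2 i⟩ (by split_ifs; exacts [z_Qs h k, one_mem _])⟩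
  have hπ : ∀ w, π ((F w : ↥(Qs h k)) : G) = w.1.1 := by
    intro w
    show π (r w.1.1 * _) = _
    split_ifs
    · rw [h.π_mul_z (hrQ _), hr]
    · rw [mul_one, hr]
  have hF : Function.Bijective F := by
    constructor
    · intro w w' e
      have hv : w.1 = w'.1 := Subtype.ext (by rw [← hπ w, e, hπ])
      obtain ⟨v, c⟩ := w
      obtain ⟨v', c'⟩ := w'
      change v = v' at hv
      subst hv
      have e' := congrArg Subtype.val e
      cases c <;> cases c' <;> simp [F] at e' ⊢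
      · exact h.es.ne e'
      · exact h.es.ne e'
    · intro q
      rcases h.π_eq (hrQ (π q.1)) q.2.1 (hr _) with e | e
      · exact ⟨(⟨π q.1, q.2.2⟩, false), Subtype.ext (by simp [F, ← e])⟩
      · exact ⟨(⟨π q.1, q.2.2⟩, true), Subtype.ext (by simp [F, ← e])⟩
  rw [← Nat.card_eq_of_bijective F hF, Nat.card_prod, hT, Nat.card_eq_fintype_card (α := Bool), Fintype.card_bool]

/-- The action on the points, as a homomorphism. -/
noncomputable def hom (k : Bool) : ↥(Sd h k) →* Perm (Fin 5) :=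
  MonoidHom.mk' (fun c => prm k (M (c : G))) fun c d => Sd_mul h c.2 d.2

theorem hom_range (k : Bool) : (hom h k).range = alternatingGroup (Fin 5) := by
  refine le_antisymm ?_ fun σ hσ => ?_
  · rintro _ ⟨c, rfl⟩
    exact Perm.mem_alternatingGroup.mpr (Sd_sign h c.2)
  · obtain ⟨c, hc, e⟩ := Sd_surj h k (Perm.mem_alternatingGroup.mp hσ)
    exact ⟨⟨c, hc⟩, e⟩

theorem hom_ker (k : Bool) : (hom h k).ker = (Qs h k).subgroupOf (Sd h k) := by
  ext c
  exact (Sd_ker h c.2).trans Subgroup.mem_subgroupOf.symm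

theorem card_Sd (k : Bool) : Nat.card ↥(Sd h k) = 1920 := by
  rw [← (hom h k).ker.card_mul_index, Subgroup.index_ker, hom_range, hom_ker,
    Nat.card_congr (Subgroup.subgroupOfEquivOfLe (Qs_le_Sd h k)).toEquiv, card_Qs, nat_card_alternatingGroup,
    Nat.card_eq_fintype_card, Fintype.card_fin]
  rfl

end Five

end CfsgLib.ConwayType
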