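import Cfsg.Agent.Lib.ConwayType.Five.Split
import Cfsg.Agent.Lib.Perm.StandardAlt

/-!
Groups of Conway type: the layer of the centralizer of the element of order five and its centralizer.
-/

set_option autoImplicit false
set_option linter.unusedSectionVars false
set_option maxRecDepth 20000
set_option synthInstance.maxSize 2048
set_option synthInstance.maxHeartbeats 200000

namespace CfsgLib.ConwayType.Five

open QuadraticMap CfsgLargeExtra Equiv
open CfsgLib.HallJankoType (mem_cent conj_fix_iff HJ)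
open scoped commutatorElement

universe u

theorem perp_three_count : (Finset.univ.filter fun v : V => bf v (sv false 0) = 0 ∧
    bf v (sv false 1 + sv false 2) = 0 ∧ bf v (sv false 2 + sv false 3) = 0).card = 32 := by decide +kernel

variable {G : Type u} [Group G] [Finite G] {z β x g : G} {Q : Subgroup G} {π : G → V} {M : G → O8}
variable {C : Subgroup G} {X : Type u} [Group X] [Finite X] {f : C →* X} {zC : C}

namespace Proj

variable (Pj : Proj z β C f zC) (T : B5 z β Q π M)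
include Pj T

theorem ker_le_center : f.ker ≤ Subgroup.center C := fun k hk => by
  obtain ⟨i, hi⟩ := (Pj.ker k).mp hk
  refine Subgroup.mem_center_iff.mpr fun a => Subtype.ext ?_
  rw [Subgroup.coe_mul, Subgroup.coe_mul, hi]
  exact (Commute.pow_right (show Commute (a : G) β from (Pj.mem _).mp a.2) i).eq

theorem card_ker : Nat.card f.ker = 5 := by
  rw [← T.b5, ← Nat.card_zpowers]
  refine Nat.card_eq_of_bijective (fun k : f.ker => (⟨(k : C), ?_⟩ : Subgroup.zpowers β)) ⟨fun a b e => ?_, fun b => ?_⟩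
  · obtain ⟨i, hi⟩ := (Pj.ker _).mp k.2
    rw [hi]
    exact pow_mem (Subgroup.mem_zpowers β) i
  · exact Subtype.ext (Subtype.ext (congrArg (fun w : Subgroup.zpowers β => (w : G)) e))
  · obtain ⟨i, hi⟩ := (Submonoid.mem_powers_iff _ _).mp (mem_powers_iff_mem_zpowers.mpr b.2)
    have hC : (b : G) ∈ C := (Pj.mem _).mpr (hi ▸ Commute.pow_self β i)
    exact ⟨⟨⟨b, hC⟩, (Pj.ker _).mpr ⟨i, hi.symm⟩⟩, Subtype.ext rfl⟩

end Proj

namespace Sw

variable (W : Sw z β x g Q π M) (Pj : Proj z β C f zC)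
include W Pj

theorem split : commutator C ⊓ f.ker = ⊥ ∧ commutator C ⊔ f.ker = ⊤ ∧ commutator X = ⊤ :=
  CfsgLib.HallJankoType.split_five f Pj.surj (Pj.card_ker W.base) (Pj.ker_le_center W.base) (W.hj Pj)

/-- The derived subgroup maps isomorphically. -/
theorem derived_equiv : Nonempty (↥(commutator C) ≃* X) := by
  obtain ⟨h1, -, h3⟩ := W.split Pj
  refine ⟨MulEquiv.ofBijective (f.comp (commutator C).subtype) ⟨?_, fun y => ?_⟩⟩
  · rw [← MonoidHom.ker_eq_bot_iff, eq_bot_iff]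
    intro a ha
    refine Subtype.ext (Subgroup.mem_bot.mp ?_)
    rw [← h1]
    exact ⟨a.2, ha⟩
  · have hy : y ∈ (commutator C).map f := by
      rw [map_commutator_eq, MonoidHom.range_eq_top.mpr Pj.surj]
      exact h3.ge (Subgroup.mem_top y)
    obtain ⟨a, ha, e⟩ := hy
    exact ⟨⟨a, ha⟩, e⟩

theorem layer_eq : Cfsg.layer C = commutator C := by
  obtain ⟨e⟩ := W.derived_equiv Pj
  haveI := (W.hj Pj).isSimple
  haveI hsimp : IsSimpleGroup ↥(commutator C) := e.isSimpleGroup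
  refine le_antisymm (sSup_le fun K hK => ?_) (le_sSup ⟨?_, ?_⟩)
  · intro a ha
    have h1 : (⟨a, ha⟩ : K) ∈ commutator K := hK.2.1.1 ▸ Subgroup.mem_top _
    have h2 : (commutator K).map K.subtype ≤ commutator C := by
      rw [map_commutator_eq]
      exact Subgroup.commutator_mono le_top le_top
    exact h2 ⟨_, h1, rfl⟩
  · exact Subgroup.Normal.isSubnormal inferInstance
  · obtain ⟨a, ha⟩ : ∃ a b : ↥(commutator C), a * b ≠ b * a := by
      by_contra hall
      push Not at hall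
      obtain ⟨-, -, h3⟩ := W.split Pj
      have hbot : commutator X = ⊥ := by
        refine eq_bot_iff.mpr (Subgroup.commutator_le.mpr fun u _ v _ => ?_)
        rw [Subgroup.mem_bot, commutatorElement_eq_one_iff_mul_comm]
        obtain ⟨u', rfl⟩ := e.surjective u
        obtain ⟨v', rfl⟩ := e.surjective v
        rw [← map_mul, ← map_mul, hall]
      haveI := (W.hj Pj).isSimple
      exact bot_ne_top (hbot.symm.trans h3)
    obtain ⟨b, hab⟩ := ha
    exact CfsgLib.StandardAlt.isQuasisimple_of_simple hab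

theorem iso_layer : Cfsg.Spor.IsoJ2 ↥(Cfsg.layer C) := by
  obtain ⟨e⟩ := W.derived_equiv Pj
  obtain ⟨e'⟩ := CfsgLib.HallJankoType.iso_of_HJ (W.hj Pj)
  exact ⟨(MulEquiv.subgroupCongr (W.layer_eq Pj)).trans (e.trans e')⟩

theorem two_mem {a : C} {m : ℕ} (h2 : (a : G) ^ 2 ^ m = 1) : a ∈ commutator C := by
  obtain ⟨h1, h3, -⟩ := W.split Pj
  obtain ⟨l, hl, k, hk, rfl⟩ := Subgroup.mem_sup_of_normal_right.mp (h3.symm ▸ Subgroup.mem_top a)
  have hc : Commute l k := (Subgroup.mem_center_iff.mp (Pj.ker_le_center W.base hk) l)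
  have e : (l * k) ^ 2 ^ m = 1 := Subtype.ext (by simpa using h2)
  rw [hc.mul_pow] at e
  have hk2 : k ^ 2 ^ m ∈ commutator C ⊓ f.ker :=
    ⟨by rw [eq_inv_of_mul_eq_one_right e]; exact (commutator C).inv_mem ((commutator C).pow_mem hl _),
      f.ker.pow_mem hk _⟩
  rw [h1, Subgroup.mem_bot] at hk2
  have hk5 : k ^ 5 = 1 := by
    have := congrArg Subtype.val (pow_card_eq_one' (x := (⟨k, hk⟩ : f.ker)))
    rw [Pj.card_ker W.base] at this
    simpa using this
  have h4 : orderOf k ∣ Nat.gcd (2 ^ m) 5 :=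
    Nat.dvd_gcd (orderOf_dvd_of_pow_eq_one hk2) (orderOf_dvd_of_pow_eq_one hk5)
  rw [(Nat.Coprime.pow_left m (by norm_num : Nat.Coprime 2 5)), Nat.dvd_one, orderOf_eq_one_iff] at h4
  rwa [h4, mul_one]

omit Pj in
theorem cj_conj {a : G} (ha : a ∈ Sd W.base.st false) : g * a * g⁻¹ * β = β * (g * a * g⁻¹) :=
  Commute.mul_left (Commute.mul_left W.gb (W.base.Sd_false_comm ha)) W.gb'

/-- The centralizer of the derived subgroup. -/
theorem cent_eq : Subgroup.centralizer (((commutator C).map C.subtype : Subgroup G) : Set G) =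
    Sd W.base.st true ⊓ CfsgLargeExtra.cj g (Sd W.base.st true) := by
  have T := W.base
  have h := T.st
  have hQs : ∀ q ∈ Qs h false, q ∈ (commutator C).map C.subtype := fun q hq =>
    ⟨⟨q, Pj.Qs_le T hq⟩, W.two_mem Pj (m := 2) (congrArg Subtype.val (h.es.toExt.pow_four ⟨q, hq.1⟩)), rfl⟩
  have hsd : ∀ a, (∀ l ∈ (commutator C).map C.subtype, l * a = a * l) → a ∈ Sd h true := fun a ha =>
    (mem_Sd h).mpr ⟨(ha z (hQs z (z_Qs h false))).symm, fun q hq => (ha q (hQs q hq)).symm⟩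
  have hgC := W.g_mem Pj
  refine le_antisymm (fun a ha => ?_) fun a ha => ?_
  · have ha' := Subgroup.mem_centralizer_iff.mp ha
    refine ⟨hsd a ha', CfsgLargeExtra.mem_cj.mpr (hsd _ ?_)⟩
    rintro l ⟨c, hc, rfl⟩
    have h1 : g * (c : G) * g⁻¹ ∈ (commutator C).map C.subtype :=
      ⟨⟨g, hgC⟩ * c * (⟨g, hgC⟩ : C)⁻¹, Subgroup.Normal.conj_mem inferInstance c hc _, rfl⟩
    calc (c : G) * (g⁻¹ * a * g) = g⁻¹ * (g * c * g⁻¹ * a) * g := by group
      _ = g⁻¹ * (a * (g * c * g⁻¹)) * g := by rw [ha' _ h1]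
      _ = g⁻¹ * a * g * c := by group
  · obtain ⟨ha1, ha2⟩ := ha
    set Z := (Sd h false ⊔ CfsgLargeExtra.cj g (Sd h false)).subgroupOf C with hZ
    have hZa : ∀ c : C, c ∈ Z → (c : G) * a = a * c := by
      intro c hc
      have h1 : Sd h false ⊔ CfsgLargeExtra.cj g (Sd h false) ≤ Subgroup.centralizer ({a} : Set G) := by
        refine sup_le (fun b hb => mem_cent.mpr (Sd_comm h (k := false) hb ha1)) fun b hb => mem_cent.mpr ?_
        have e := Sd_comm h (k := false) (CfsgLargeExtra.mem_cj.mp hb) (CfsgLargeExtra.mem_cj.mp ha2)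
        calc b * a = g * (g⁻¹ * b * g * (g⁻¹ * a * g)) * g⁻¹ := by group
          _ = g * (g⁻¹ * a * g * (g⁻¹ * b * g)) * g⁻¹ := by rw [e]
          _ = a * b := by group
      exact mem_cent.mp (h1 hc)
    have hmap : Z.map f = ⊤ := by
      rw [eq_top_iff, ← W.generate Pj]
      have hzc : ∀ c : C, f c * f zC = f zC * f c → ∃ b : C, (b : G) ∈ Sd h false ∧ f b = f c := by
        intro c hc
        obtain ⟨b, hb, n, hn⟩ := T.cent_split ((Pj.comm_zX T c).mp hc) ((Pj.mem _).mp c.2)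
        exact ⟨⟨b, (Pj.mem _).mpr (T.Sd_false_comm hb)⟩, hb, (Pj.eq_iff.mpr ⟨n, hn⟩).symm⟩
      refine sup_le (fun y hy => ?_) fun y hy => ?_
      · obtain ⟨c, rfl⟩ := Pj.surj y
        obtain ⟨b, hb, e⟩ := hzc c (mem_cent.mp hy)
        exact ⟨b, Subgroup.mem_sup_left hb, e⟩
      · obtain ⟨c, rfl⟩ := Pj.surj y
        have e0 : f ⟨g, hgC⟩ * f zC * (f ⟨g, hgC⟩)⁻¹ = f ⟨x, W.x_mem Pj⟩ := by
          rw [← map_inv, ← map_mul, ← map_mul]
          refine congrArg f (Subtype.ext ?_)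
          rw [Subgroup.coe_mul, Subgroup.coe_mul, Pj.zC, Subgroup.coe_inv]
          exact W.gz
        have hy' : f c * f ⟨x, W.x_mem Pj⟩ = f ⟨x, W.x_mem Pj⟩ * f c := mem_cent.mp hy
        obtain ⟨b, hb, e⟩ := hzc ((⟨g, hgC⟩ : C)⁻¹ * c * ⟨g, hgC⟩) (by
          rw [map_mul, map_mul, map_inv]
          calc (f ⟨g, hgC⟩)⁻¹ * f c * f ⟨g, hgC⟩ * f zC
              = (f ⟨g, hgC⟩)⁻¹ * (f c * (f ⟨g, hgC⟩ * f zC * (f ⟨g, hgC⟩)⁻¹)) * f ⟨g, hgC⟩ := by group
            _ = (f ⟨g, hgC⟩)⁻¹ * ((f ⟨g, hgC⟩ * f zC * (f ⟨g, hgC⟩)⁻¹) * f c) * f ⟨g, hgC⟩ := by rw [e0, hy']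
            _ = f zC * ((f ⟨g, hgC⟩)⁻¹ * f c * f ⟨g, hgC⟩) := by group)
        refine ⟨⟨g, hgC⟩ * b * (⟨g, hgC⟩ : C)⁻¹, Subgroup.mem_sup_right (CfsgLargeExtra.conj_mem_cj hb), ?_⟩
        rw [map_mul, map_mul, e, map_inv, map_mul, map_mul, map_inv]
        group
    have hLZ : commutator C ≤ Z := by
      refine Subgroup.commutator_le.mpr fun u _ v _ => ?_
      obtain ⟨u', hu', eu⟩ : f u ∈ Z.map f := hmap ▸ Subgroup.mem_top _
      obtain ⟨v', hv', ev⟩ : f v ∈ Z.map f := hmap ▸ Subgroup.mem_top _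
      obtain ⟨k, hk, rfl⟩ : ∃ k ∈ f.ker, u = u' * k :=
        ⟨u'⁻¹ * u, by rw [MonoidHom.mem_ker, map_mul, map_inv, eu, inv_mul_cancel], by group⟩
      obtain ⟨k', hk', rfl⟩ : ∃ k ∈ f.ker, v = v' * k :=
        ⟨v'⁻¹ * v, by rw [MonoidHom.mem_ker, map_mul, map_inv, ev, inv_mul_cancel], by group⟩
      have hk1 := Subgroup.mem_center_iff.mp (Pj.ker_le_center T hk)
      have hk2 := Subgroup.mem_center_iff.mp (Pj.ker_le_center T hk')
      have e : ⁅u' * k, v' * k'⁆ = ⁅u', v'⁆ := by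
        simp only [commutatorElement_def, mul_inv_rev]
        calc u' * k * (v' * k') * (k⁻¹ * u'⁻¹) * (k'⁻¹ * v'⁻¹)
            = u' * (k * (v' * k')) * k⁻¹ * u'⁻¹ * (k'⁻¹ * v'⁻¹) := by group
          _ = u' * v' * (k' * u'⁻¹) * (k'⁻¹ * v'⁻¹) := by rw [← hk1 (v' * k')]; group
          _ = u' * v' * u'⁻¹ * v'⁻¹ := by rw [← hk2 u'⁻¹]; group
      rw [e, commutatorElement_def]
      exact mul_mem (mul_mem (mul_mem hu' hv') (inv_mem hu')) (inv_mem hv')
    refine Subgroup.mem_centralizer_iff.mpr ?_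
    rintro l ⟨c, hc, rfl⟩
    exact hZa c (hLZ hc)

omit Pj in
/-- The intersection of the two complements is the alternating group of degree five. -/
theorem inter_iso :
    Nonempty (↥(Sd W.base.st true ⊓ CfsgLargeExtra.cj g (Sd W.base.st true)) ≃* alternatingGroup (Fin 5)) := by
  classical
  have T := W.base
  have h := T.st
  set A := Sd h true ⊓ CfsgLargeExtra.cj g (Sd h true) with hA
  have hzA : z ∉ A := fun hz => by
    have hxs : x ∈ Sd h true := by
      have := CfsgLargeExtra.mem_cj.mp hz.2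
      rwa [W.giz] at this
    have e := ((Q_inter_Sd h W.xQs.1).mp hxs).2 1
    rw [W.xπ] at e
    exact one_ne_zero (((sv_props false 0 1).2.2.2.1 (by decide)).symm.trans e)
  have hbA : β ∈ A := ⟨T.beta_Sd, CfsgLargeExtra.mem_cj.mpr (by
    rw [show g⁻¹ * β * g = β by rw [mul_assoc, ← W.gb, inv_mul_cancel_left]]
    exact T.beta_Sd)⟩
  let φ : A →* Perm (Fin 5) := (hom h true).comp (Subgroup.inclusion inf_le_left)
  have hinj : Function.Injective φ := by
    rw [← MonoidHom.ker_eq_bot_iff, eq_bot_iff]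
    intro a ha
    by_contra hne
    have hq : (a : G) ∈ Qs h true := (Sd_ker h a.2.1).mp ha
    have hqq : (a : G) * a = 1 := (h.es.sq _ hq.1).resolve_right fun e => hzA (e ▸ mul_mem a.2 a.2)
    have h0 : π (a : G) ≠ 0 := fun e => by
      rcases h.π_ker _ hq.1 e with e' | e'
      · exact hne (Subgroup.mem_bot.mpr (Subtype.ext e'))
      · exact hzA (e' ▸ a.2)
    obtain ⟨i, hi⟩ : ∃ i, π (a : G) = sv true i :=
      (sv_singular true _ hq.2 ((h.sq _ hq.1).mp hqq)).resolve_left h0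
    have hcA : (a : G) * (β * a * β⁻¹) * (a : G)⁻¹ * (β * a * β⁻¹)⁻¹ ∈ A :=
      mul_mem (mul_mem (mul_mem a.2 (mul_mem (mul_mem hbA a.2) (inv_mem hbA))) (inv_mem a.2))
        (inv_mem (mul_mem (mul_mem hbA a.2) (inv_mem hbA)))
    refine hzA ?_
    have hne' : bf (π (a : G)) (π (β * a * β⁻¹)) = 1 := by
      rw [h.M_act β T.bz _ hq.1, hi, prm_spec (Sd_pre h T.beta_Sd true)]
      exact (sv_props true i _).2.2.2.1 fun e => five_move _ T.tau_five T.tau_ne i e.symm
    have e : (a : G) * (β * a * β⁻¹) * (a : G)⁻¹ * (β * a * β⁻¹)⁻¹ = z := by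
      rw [h.conj_Q hq.1 (h.nor_mem T.bz hq.1), if_neg (by rw [hne']; exact one_ne_zero),
        h.es.comm _ (h.nor_mem T.bz hq.1), mul_inv_cancel_right]
    rwa [e] at hcA
  -- the index bound
  obtain ⟨s, hs, hsπ⟩ := exists_Qs h false 1
  have hsp : bf (π s) (π x) = 1 := by
    rw [hsπ, W.xπ]; exact (sv_props false 1 0).2.2.2.1 (by decide)
  set Y := Subgroup.centralizer ({z} : Set G) ⊓
    Subgroup.centralizer {a : G | a ∈ Qs h false ∧ a * x = x * a} with hY
  have hmemY : ∀ {c}, c ∈ Y ↔ c * z = z * c ∧ ∀ a ∈ Qs h false, a * x = x * a → a * c = c * a :=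
    Subgroup.mem_inf.trans (and_congr mem_cent (Subgroup.mem_centralizer_iff.trans
      ⟨fun e a h1 h2 => e a ⟨h1, h2⟩, fun e a ha => e a ha.1 ha.2⟩))
  have hHY : Sd h true ≤ Y := fun c hc => hmemY.mpr ⟨((mem_Sd h).mp hc).1, fun a ha _ => (((mem_Sd h).mp hc).2 a ha).symm⟩
  have hKY : CfsgLargeExtra.cj g (Sd h true) ≤ Y := by
    intro c hc
    have hk := CfsgLargeExtra.mem_cj.mp hc
    have key : ∀ a : G, g⁻¹ * a * g ∈ Sd h false → a * c = c * a := fun a ha => by
      have e := Sd_comm h (k := false) ha hk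
      calc a * c = g * (g⁻¹ * a * g * (g⁻¹ * c * g)) * g⁻¹ := by group
        _ = g * (g⁻¹ * c * g * (g⁻¹ * a * g)) * g⁻¹ := by rw [e]
        _ = c * a := by group
    refine hmemY.mpr ⟨(key z (by rw [W.giz]; exact Qs_le_Sd h _ W.xQs)).symm, fun a ha hax => key a ?_⟩
    refine T.two_elem (m := 2) ?_ (Commute.mul_left (Commute.mul_left W.gb' (T.Qs_false_comm ha)) W.gb) ?_
    · calc g⁻¹ * a * g * z = g⁻¹ * (a * (g * z * g⁻¹)) * g := by group
        _ = g⁻¹ * (g * z * g⁻¹ * a) * g := by rw [W.gz, hax]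
        _ = z * (g⁻¹ * a * g) := by group
    · have := conj_pow (i := 2 ^ 2) (b := a) (a := g⁻¹)
      rw [inv_inv] at this
      rw [this, show a ^ 2 ^ 2 = 1 from congrArg Subtype.val (h.es.toExt.pow_four ⟨a, ha.1⟩)]
      group
  let S := {u : G // u ∈ Q ∧ ∀ a ∈ Qs h false, a * x = x * a → bf (π u) (π a) = 0}
  have hS : Nat.card S ≤ 64 := by
    choose r hrQ hr using h.π_surj
    let Tv := {v : V // bf v (sv false 0) = 0 ∧ bf v (sv false 1 + sv false 2) = 0 ∧
      bf v (sv false 2 + sv false 3) = 0}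
    have hTv : Nat.card Tv = 32 := by
      rw [Nat.card_eq_fintype_card, Fintype.card_subtype]; exact perp_three_count
    obtain ⟨r1, hr1, e1⟩ := exists_Qs h false 1
    obtain ⟨r2, hr2, e2⟩ := exists_Qs h false 2
    obtain ⟨r3, hr3, e3⟩ := exists_Qs h false 3
    have hmid : ∀ p q, p ∈ Qs h false → q ∈ Qs h false → bf (π p) (π x) = 1 → bf (π q) (π x) = 1 →
        p * q * x = x * (p * q) := fun p q hp hq h1 h2 => (W.pr.comm_x (mul_mem hp.1 hq.1)).mpr (by
      rw [h.π_mul _ hp.1 _ hq.1, bf_add_left, h1, h2, F2_add_self])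
    have hb1 : ∀ i : Fin 5, i ≠ 0 → bf (sv false i) (π x) = 1 := fun i hi => by
      rw [W.xπ]; exact (sv_props false i 0).2.2.2.1 hi
    let F : S → Tv × Bool := fun u => (⟨π u.1, by rw [← W.xπ]; exact u.2.2 x W.xQs rfl, by
      have := u.2.2 _ (mul_mem hr1 hr2) (hmid _ _ hr1 hr2 (by rw [e1]; exact hb1 1 (by decide))
        (by rw [e2]; exact hb1 2 (by decide)))
      rwa [h.π_mul _ hr1.1 _ hr2.1, e1, e2] at this, by
      have := u.2.2 _ (mul_mem hr2 hr3) (hmid _ _ hr2 hr3 (by rw [e2]; exact hb1 2 (by decide))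
        (by rw [e3]; exact hb1 3 (by decide)))
      rwa [h.π_mul _ hr2.1 _ hr3.1, e2, e3] at this⟩, decide (u.1 = r (π u.1)))
    refine (Nat.card_le_card_of_injective F fun u u' e => ?_).trans (by
      rw [Nat.card_prod, hTv, Nat.card_eq_fintype_card (α := Bool), Fintype.card_bool])
    simp only [F, Prod.mk.injEq, Subtype.mk.injEq] at e
    obtain ⟨ev', eb⟩ := e
    have ev : π u.1 = π u'.1 := congrArg Subtype.val ev'
    have hu := h.π_eq (hrQ (π u.1)) u.2.1 (hr _)
    have hu' := h.π_eq (hrQ (π u'.1)) u'.2.1 (hr _)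
    refine Subtype.ext ?_
    by_cases hd : u.1 = r (π u.1)
    · rw [decide_eq_true hd] at eb
      rw [hd, of_decide_eq_true eb.symm, ev]
    · rw [decide_eq_false hd] at eb
      rw [hu.resolve_left hd, hu'.resolve_left (of_decide_eq_false eb.symm), ev]
  have hidx : (Sd h true).relIndex Y ≤ 64 := by
    refine le_trans ?_ hS
    let F : Y → S := fun c => ⟨s⁻¹ * ((c : G) * s * (c : G)⁻¹),
      mul_mem (inv_mem hs.1) (h.nor_mem (hmemY.mp c.2).1 hs.1), fun a ha hax => by
        have hc := (hmemY.mp c.2)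
        rw [h.π_mul _ (inv_mem hs.1) _ (h.nor_mem hc.1 hs.1), h.π_inv hs.1, bf_add_left, h.M_act _ hc.1 _ hs.1]
        have hfix : (M (c : G)).1 (π a) = π a := by
          rw [← h.M_act _ hc.1 _ ha.1, conj_fix_iff.mpr (hc.2 a ha hax).symm]
        conv_lhs => arg 2; rw [← hfix, bf_map]
        exact F2_add_self _⟩
    have hF : ∀ c c' : Y, F c = F c' ↔ c⁻¹ * c' ∈ (Sd h true).subgroupOf Y := by
      intro c c'
      rw [Subgroup.mem_subgroupOf]
      have hd := hmemY.mp (c⁻¹ * c').2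
      constructor
      · intro e
        have e1 : (c : G) * s * (c : G)⁻¹ = (c' : G) * s * (c' : G)⁻¹ := mul_left_cancel (congrArg Subtype.val e)
        have e2 : ((c⁻¹ * c' : Y) : G) * s = s * ((c⁻¹ * c' : Y) : G) := by
          rw [Subgroup.coe_mul, Subgroup.coe_inv]
          calc (c : G)⁻¹ * c' * s = (c : G)⁻¹ * ((c' : G) * s * (c' : G)⁻¹) * c' := by group
            _ = (c : G)⁻¹ * ((c : G) * s * (c : G)⁻¹) * c' := by rw [e1]
            _ = s * ((c : G)⁻¹ * c') := by group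
        refine (mem_Sd h).mpr ⟨hd.1, fun q hq => ?_⟩
        by_cases hqx : q * x = x * q
        · exact (hd.2 q hq hqx).symm
        · have hqsx : q * s * x = x * (q * s) := (W.pr.comm_x (mul_mem hq.1 hs.1)).mpr (by
            rw [h.π_mul _ hq.1 _ hs.1, bf_add_left, hsp,
              bf_eq_one (fun e0 => hqx ((W.pr.comm_x hq.1).mpr e0)), F2_add_self])
          have e3 : Commute ((c⁻¹ * c' : Y) : G) (q * s) := (hd.2 _ (mul_mem hq hs) hqsx).symm
          have e4 := e3.mul_right (show Commute ((c⁻¹ * c' : Y) : G) s⁻¹ from Commute.inv_right e2)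
          rwa [mul_inv_cancel_right] at e4
      · intro hm
        have e2 := ((mem_Sd h).mp hm).2 s hs
        refine Subtype.ext ?_
        show s⁻¹ * ((c : G) * s * (c : G)⁻¹) = s⁻¹ * ((c' : G) * s * (c' : G)⁻¹)
        rw [show (c' : G) = (c : G) * ((c⁻¹ * c' : Y) : G) by rw [Subgroup.coe_mul, Subgroup.coe_inv]; group,
          show (c : G) * ((c⁻¹ * c' : Y) : G) * s * ((c : G) * ((c⁻¹ * c' : Y) : G))⁻¹ =
            (c : G) * (((c⁻¹ * c' : Y) : G) * s * ((c⁻¹ * c' : Y) : G)⁻¹) * (c : G)⁻¹ by group,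
          conj_fix_iff.mpr e2]
    let Φ : Y ⧸ (Sd h true).subgroupOf Y → S :=
      Quotient.lift F fun c c' e => (hF c c').mpr (QuotientGroup.leftRel_apply.mp e)
    exact Nat.card_le_card_of_injective Φ fun a b => Quotient.inductionOn₂ a b fun c c' e =>
      QuotientGroup.eq.mpr ((hF c c').mp e)
  have hrange : φ.range ≤ alternatingGroup (Fin 5) := by
    rintro _ ⟨a, rfl⟩
    exact Perm.mem_alternatingGroup.mpr (Sd_sign h a.2.1)
  have h30 : 30 ≤ Nat.card A := by
    have hK : Nat.card ↥(CfsgLargeExtra.cj g (Sd h true)) = 1920 := by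
      rw [CfsgLargeExtra.cj, Subgroup.card_map_of_injective (MulAut.conj g).injective]
      exact card_Sd h true
    have h1 := Subgroup.relIndex_mul_relIndex (⊥ : Subgroup G) A (CfsgLargeExtra.cj g (Sd h true)) bot_le inf_le_right
    rw [Subgroup.relIndex_bot_left, Subgroup.relIndex_bot_left, hK, hA, Subgroup.inf_relIndex_right] at h1
    have h2 := Subgroup.relIndex_le_of_le_right (H := Sd h true) hKY Subgroup.index_ne_zero_of_finite
    nlinarith
  have hcard : Nat.card ↥φ.range = Nat.card A := (Nat.card_congr (MonoidHom.ofInjective hinj).toEquiv).symm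
  have hle : φ.range = alternatingGroup (Fin 5) := by
    refine le_antisymm hrange fun σ hσ => ?_
    set R := φ.range.subgroupOf (alternatingGroup (Fin 5)) with hR
    have h60 : Nat.card ↥(alternatingGroup (Fin 5)) = 60 := by
      rw [nat_card_alternatingGroup, Nat.card_eq_fintype_card, Fintype.card_fin]; rfl
    have h1 := R.card_mul_index
    rw [h60, hR, Nat.card_congr (Subgroup.subgroupOfEquivOfLe hrange).toEquiv, hcard, ← hR] at h1
    have hi : R.index = 1 ∨ R.index = 2 := by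
      rcases Nat.lt_or_ge R.index 3 with h3 | h3
      · rcases (show R.index = 0 ∨ R.index = 1 ∨ R.index = 2 by omega) with e | e | e
        · exact absurd e Subgroup.index_ne_zero_of_finite
        · exact Or.inl e
        · exact Or.inr e
      · nlinarith
    rcases hi with e | e
    · have : (⟨σ, hσ⟩ : alternatingGroup (Fin 5)) ∈ R := by
        rw [Subgroup.index_eq_one.mp e]; exact Subgroup.mem_top _
      exact this
    · obtain ⟨a, b, ha, hb, rfl⟩ := even_squares σ (Perm.mem_alternatingGroup.mp hσ)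
      have hsq : ∀ c : alternatingGroup (Fin 5), c * c ∈ R := fun c =>
        (Subgroup.mul_mem_iff_of_index_two e).mpr Iff.rfl
      exact mul_mem (hsq ⟨a, Perm.mem_alternatingGroup.mpr ha⟩) (hsq ⟨b, Perm.mem_alternatingGroup.mpr hb⟩)
  exact ⟨(MonoidHom.ofInjective hinj).trans (MulEquiv.subgroupCongr hle)⟩

end Sw

end CfsgLib.ConwayType.Five
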