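import Cfsg.Agent.Lib.ConwayType.Five.Image
import Cfsg.Agent.Lib.HallJankoType.Five
import Mathlib.GroupTheory.Transfer

/-!
A central extension of a group of Hall–Janko type by a group of order five splits.
-/

set_option autoImplicit false
set_option linter.unusedSectionVars false
set_option maxRecDepth 100000

namespace CfsgLib.HallJankoType

open Equiv

universe u

theorem a5_fifth : ∀ σ : alternatingGroup (Fin 5), ∃ a b : alternatingGroup (Fin 5), σ = a ^ 5 * b ^ 5 := by
  decide +kernel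

/-- An element of order five with centralizer quotient `A5`, and abelian Sylow five-subgroups. -/
theorem HJ.exists_five_cent {X : Type u} [Group X] [Finite X] {z : X} {Q : Subgroup X} {pm : X → Perm (Fin 5)}
    (h : HJ z Q pm) : ∃ a : X, orderOf a = 5 ∧
      (∃ q : ↥(Subgroup.centralizer ({a} : Set X)) →* alternatingGroup (Fin 5),
        Function.Surjective q ∧ ∀ w, q w = 1 ↔ (w : X) ∈ Subgroup.zpowers a) ∧
      ∀ S : Subgroup X, IsPGroup 5 ↥S → ∀ b ∈ S, ∀ c ∈ S, b * c = c * b := by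
  obtain ⟨x, t, t', d, Q', pm', D⟩ := exists_cyc h
  obtain ⟨M, S⟩ := D.exists_sub
  haveI : Fact (Nat.Prime 5) := ⟨by norm_num⟩
  obtain ⟨a, ha⟩ := exists_prime_orderOf_dvd_card' (G := M) 5 (by rw [S.card_M]; norm_num)
  rw [← Subgroup.orderOf_coe] at ha
  exact ⟨a, ha, (S.card_cent_five a.2 ha).2, fun T hT b hb c hc => by
    obtain ⟨P, hP⟩ := hT.exists_le_sylow
    exact S.sylow_comm P (hP hb) (hP hc)⟩

/-- The kernel meets the derived subgroup trivially, and is a complement to it. -/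
theorem split_five {C : Type u} [Group C] [Finite C] {X : Type u} [Group X] [Finite X] (f : C →* X)
    (hs : Function.Surjective f) (hk : Nat.card f.ker = 5) (hc : f.ker ≤ Subgroup.center C)
    {z : X} {Q : Subgroup X} {pm : X → Perm (Fin 5)} (h : HJ z Q pm) :
    commutator C ⊓ f.ker = ⊥ ∧ commutator C ⊔ f.ker = ⊤ ∧ commutator X = ⊤ := by
  classical
  haveI : Fact (Nat.Prime 5) := ⟨by norm_num⟩
  obtain ⟨a, hao, ⟨q, hqs, hq⟩, hsyl⟩ := h.exists_five_cent
  obtain ⟨al, hal⟩ := hs a
  have hk5 : ∀ k ∈ f.ker, k ^ 5 = 1 := fun k hk' => by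
    have := congrArg Subtype.val (pow_card_eq_one' (x := (⟨k, hk'⟩ : f.ker)))
    rw [hk] at this
    simpa using this
  -- `al` is central in the preimage of the centralizer of `a`
  set Y := (Subgroup.centralizer ({a} : Set X)).comap f with hY
  have hcm : ∀ y ∈ Y, y * al * y⁻¹ * al⁻¹ ∈ f.ker := fun y hy => by
    rw [MonoidHom.mem_ker, map_mul, map_mul, map_mul, map_inv, map_inv, hal,
      conj_fix_iff.mpr (mem_cent.mp hy), mul_inv_cancel]
  have hfifth : ∀ y ∈ Y, y ^ 5 * al = al * y ^ 5 := by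
    intro y hy
    obtain ⟨k, hk', hye⟩ : ∃ k ∈ f.ker, y * al * y⁻¹ = k * al :=
      ⟨_, hcm y hy, by group⟩
    have hky : Commute y k := (Subgroup.mem_center_iff.mp (hc hk') y)
    have hn : ∀ n : ℕ, y ^ n * al * (y ^ n)⁻¹ = k ^ n * al := by
      intro n
      induction n with
      | zero => simp
      | succ n ih =>
        rw [pow_succ', show y * y ^ n * al * (y * y ^ n)⁻¹ = y * (y ^ n * al * (y ^ n)⁻¹) * y⁻¹ by group, ih,
          show y * (k ^ n * al) * y⁻¹ = y * k ^ n * y⁻¹ * (y * al * y⁻¹) by group, hye,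
          conj_fix_iff.mpr (hky.pow_right n).eq, ← mul_assoc, ← pow_succ]
    have := hn 5
    rw [hk5 k hk', one_mul] at this
    exact conj_fix_iff.mp this
  have hcent : ∀ y ∈ Y, y * al = al * y := by
    intro y hy
    obtain ⟨s, t, hst⟩ := a5_fifth (q ⟨f y, hy⟩)
    obtain ⟨⟨sX, hsX⟩, rfl⟩ := hqs s
    obtain ⟨⟨tX, htX⟩, rfl⟩ := hqs t
    obtain ⟨sC, rfl⟩ := hs sX
    obtain ⟨tC, rfl⟩ := hs tX
    set w := (sC ^ 5 * tC ^ 5)⁻¹ * y with hw
    have hwY : f w ∈ Subgroup.centralizer ({a} : Set X) := by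
      rw [hw, map_mul, map_inv, map_mul, map_pow, map_pow]
      exact mul_mem (inv_mem (mul_mem (pow_mem hsX 5) (pow_mem htX 5))) hy
    have hq1 : q ⟨f w, hwY⟩ = 1 := by
      have e : (⟨f w, hwY⟩ : ↥(Subgroup.centralizer ({a} : Set X))) =
          (⟨f sC, hsX⟩ ^ 5 * ⟨f tC, htX⟩ ^ 5)⁻¹ * ⟨f y, hy⟩ := Subtype.ext (by
        simp [hw, map_mul, map_inv, map_pow])
      rw [e, map_mul, map_inv, map_mul, map_pow, map_pow, hst, inv_mul_cancel]
    obtain ⟨i, hi⟩ := Subgroup.mem_zpowers_iff.mp ((hq _).mp hq1)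
    have hwal : Commute w al := by
      have hker : (al ^ i)⁻¹ * w ∈ f.ker := by
        rw [MonoidHom.mem_ker, map_mul, map_inv, map_zpow, hal, hi]
        exact inv_mul_cancel _
      have h1 : Commute ((al ^ i)⁻¹ * w) al := (Subgroup.mem_center_iff.mp (hc hker) al).symm
      have h2 := ((Commute.refl al).zpow_left i).mul_left h1
      rwa [mul_inv_cancel_left] at h2
    have h3 : Commute (sC ^ 5 * tC ^ 5) al := Commute.mul_left (hfifth sC hsX) (hfifth tC htX)
    have h4 := h3.mul_left hwal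
    rwa [hw, mul_inv_cancel_left] at h4
  -- the Sylow subgroup containing `al`
  have hal25 : al ^ 5 ^ 2 = 1 := by
    rw [pow_two, pow_mul]
    exact hk5 _ (by rw [MonoidHom.mem_ker, map_pow, hal, ← hao, pow_orderOf_eq_one])
  obtain ⟨P, hP⟩ : ∃ P : Sylow 5 C, al ∈ (P : Subgroup C) := by
    have hp : IsPGroup 5 ↥(Subgroup.zpowers al) := by
      obtain ⟨j, -, hj⟩ := (Nat.dvd_prime_pow (by norm_num)).mp (orderOf_dvd_of_pow_eq_one hal25)
      exact IsPGroup.of_card (n := j) (by rw [Nat.card_zpowers, hj])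
    obtain ⟨P, hP⟩ := hp.exists_le_sylow
    exact ⟨P, hP (Subgroup.mem_zpowers al)⟩
  have hPY : ∀ p ∈ (P : Subgroup C), p ∈ Y := fun p hp => Subgroup.mem_comap.mpr (mem_cent.mpr (by
    rw [← hal]
    exact hsyl _ (P.2.map f) _ (Subgroup.mem_map_of_mem f hp) _ (Subgroup.mem_map_of_mem f hP)))
  let φ : ↥(P : Subgroup C) →* ↥(Subgroup.centralizer ({a} : Set X)) :=
    MonoidHom.mk' (fun p => ⟨f p, hPY p p.2⟩) fun p p' => Subtype.ext (map_mul f _ _)
  let ψ : ↥(P : Subgroup C) →* ↥(q.comp φ).range := (q.comp φ).rangeRestrict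
  have hψ : ψ.ker ≤ Subgroup.center ↥(P : Subgroup C) := by
    intro p hp
    rw [MonoidHom.ker_rangeRestrict, MonoidHom.mem_ker] at hp
    obtain ⟨i, hi⟩ := Subgroup.mem_zpowers_iff.mp ((hq _).mp hp)
    refine Subgroup.mem_center_iff.mpr fun r => Subtype.ext ?_
    have h1 : Commute (r : C) (al ^ i) := (show Commute (r : C) al from hcent _ (hPY r r.2)).zpow_right i
    have hker : (al ^ i)⁻¹ * (p : C) ∈ f.ker := by
      rw [MonoidHom.mem_ker, map_mul, map_inv, map_zpow, hal, hi]
      exact inv_mul_cancel _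
    have h2 : Commute (r : C) ((al ^ i)⁻¹ * p) := Subgroup.mem_center_iff.mp (hc hker) r
    have h3 := h1.mul_right h2
    rw [mul_inv_cancel_left] at h3
    exact h3.eq
  haveI : IsCyclic ↥(q.comp φ).range := by
    obtain ⟨j, hj⟩ := IsPGroup.iff_card.mp
      (P.2.of_surjective (q.comp φ).rangeRestrict (MonoidHom.rangeRestrict_surjective _))
    have h60 : Nat.card ↥(q.comp φ).range ∣ 60 := by
      have := Subgroup.card_subgroup_dvd_card (q.comp φ).range
      rwa [show Nat.card (alternatingGroup (Fin 5)) = 60 by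
        rw [nat_card_alternatingGroup, Nat.card_eq_fintype_card, Fintype.card_fin]; rfl] at this
    refine isCyclic_of_card_dvd_prime (p := 5) ?_
    rw [hj] at h60 ⊢
    rcases j with _ | _ | j
    · simp
    · simp
    · exfalso
      have : 25 ∣ 60 := dvd_trans ⟨5 ^ j, by ring⟩ h60
      norm_num at this
  letI : CommGroup ↥(P : Subgroup C) :=
    { (inferInstance : Group ↥(P : Subgroup C)) with mul_comm := commutative_of_cyclic_center_quotient ψ hψ }
  -- transfer
  let tr := MonoidHom.transfer (MonoidHom.id ↥(P : Subgroup C))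
  have hcX : commutator X = ⊤ := by
    haveI := h.isSimple
    refine (IsSimpleGroup.eq_bot_or_eq_top_of_normal (commutator X) inferInstance).resolve_left fun hbot => ?_
    obtain ⟨s, hsz, hsQ⟩ : ∃ s : X, s * z = z * s ∧ s ∉ Q := by
      obtain ⟨s, h1, -, h2⟩ := h.exists_five
      exact ⟨s, h1, h2⟩
    rcases h.es.cen s (fun k _ => by
      rw [← commutatorElement_eq_one_iff_mul_comm, ← Subgroup.mem_bot, ← hbot]
      exact Subgroup.commutator_mem_commutator (Subgroup.mem_top _) (Subgroup.mem_top _)) with rfl | rfl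
    · exact hsQ (one_mem _)
    · exact hsQ h.es.mem
  refine ⟨?_, ?_, hcX⟩
  · rw [eq_bot_iff]
    rintro k ⟨hk1, hk2⟩
    rw [Subgroup.mem_bot]
    have htr : tr k = 1 := MonoidHom.mem_ker.mp (Abelianization.commutator_subset_ker tr hk1)
    have e := MonoidHom.transfer_eq_pow (MonoidHom.id ↥(P : Subgroup C)) k fun j g₀ _ => by
      rw [mul_assoc, ← Subgroup.mem_center_iff.mp (pow_mem (hc hk2) j) g₀, inv_mul_cancel_left]
    rw [show tr k = _ from e] at htr
    have h1 : k ^ (P : Subgroup C).index = 1 := congrArg Subtype.val htr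
    have h2 : orderOf k ∣ Nat.gcd (P : Subgroup C).index 5 :=
      Nat.dvd_gcd (orderOf_dvd_of_pow_eq_one h1) (orderOf_dvd_of_pow_eq_one (hk5 k hk2))
    rw [Nat.Coprime.gcd_eq_one (Nat.Coprime.symm ((Nat.Prime.coprime_iff_not_dvd (by norm_num)).mpr P.not_dvd_index)),
      Nat.dvd_one, orderOf_eq_one_iff] at h2
    exact h2
  · have h1 : (commutator C).map f = ⊤ := by
      rw [map_commutator_eq, MonoidHom.range_eq_top.mpr hs]
      exact hcX
    rw [← Subgroup.comap_map_eq, h1, Subgroup.comap_top]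

end CfsgLib.HallJankoType
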