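import Cfsg.Agent.Lib.ConwayType.Five.Main

/-!
Groups of Conway type: the element of order five, in the terms of the statement.
-/

set_option autoImplicit false
set_option linter.unusedSectionVars false
set_option maxRecDepth 20000

universe u

namespace CfsgLib.ConwayType.Five

open Cfsg CfsgLib.ConwayType
open CfsgLib.HallJankoType (mem_cent conj_fix_iff)

variable {G : Type u} [Group G] [Finite G]

theorem statement (z : G) (hz : orderOf z = 2) (Q : Subgroup (Subgroup.centralizer ({z} : Set G))) [Q.Normal]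
    (hF : Cfsg.generalizedFittingSubgroup (Subgroup.centralizer ({z} : Set G)) = Q) (hQ : Cfsg.IsExtraspecial 2 Q)
    (hcard : Nat.card Q = 2 ^ 9)
    (e : (Subgroup.centralizer ({z} : Set G)) ⧸ Q ≃* Cfsg.Omega (ZMod 2) (Cfsg.quadFormPlus 4 (ZMod 2)))
    (hnwc : ∃ g : G, (∃ hq : g * z * g⁻¹ ∈ Subgroup.centralizer ({z} : Set G),
      (⟨g * z * g⁻¹, hq⟩ : Subgroup.centralizer ({z} : Set G)) ∈ Q) ∧ g * z * g⁻¹ ≠ z)
    (B : Subgroup (Subgroup.centralizer ({z} : Set G))) (hB : Nat.card B = 5)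
    (hCQ : Cfsg.IsExtraspecial 2 ↥(Q ⊓ Subgroup.centralizer (B : Set (Subgroup.centralizer ({z} : Set G)))))
    (hCQcard : Nat.card ↥(Q ⊓ Subgroup.centralizer (B : Set (Subgroup.centralizer ({z} : Set G)))) = 32)
    (hminus : ∀ A : Subgroup (Subgroup.centralizer ({z} : Set G)),
      A ≤ Q ⊓ Subgroup.centralizer (B : Set (Subgroup.centralizer ({z} : Set G))) →
      Cfsg.IsElementaryAbelian 2 A → Nat.card A ≤ 4) :
    Cfsg.Spor.IsoJ2 ↥(Cfsg.layer ↥(Subgroup.centralizer ((B.map (Subgroup.subtype (Subgroup.centralizer ({z} : Set G)))) : Set G))) ∧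
      Nonempty (↥(Subgroup.centralizer (((Cfsg.layer ↥(Subgroup.centralizer ((B.map (Subgroup.subtype (Subgroup.centralizer ({z} : Set G)))) : Set G))).map (Subgroup.subtype _)) : Set G)) ≃* alternatingGroup (Fin 5)) := by
  classical
  obtain ⟨π₀, M₀, h⟩ := exists_ST z hz Q hF hQ hcard e hnwc
  haveI : Fact (Nat.Prime 5) := ⟨by norm_num⟩
  obtain ⟨bB, hbB⟩ := exists_prime_orderOf_dvd_card' (G := B) 5 (by rw [hB])
  obtain ⟨β, hβdef⟩ : ∃ β : G, ((bB : (Subgroup.centralizer ({z} : Set G))) : G) = β := ⟨_, rfl⟩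
  have hgen : B = Subgroup.zpowers (bB : (Subgroup.centralizer ({z} : Set G))) :=
    (Subgroup.eq_of_le_of_card_ge (Subgroup.zpowers_le.mpr bB.2)
      (by rw [hB, Nat.card_zpowers, Subgroup.orderOf_coe, hbB])).symm
  have hB' : B.map (Subgroup.subtype (Subgroup.centralizer ({z} : Set G))) = Subgroup.zpowers β := by
    rw [hgen, MonoidHom.map_zpowers, ← hβdef]; rfl
  have hb5 : orderOf β = 5 := by rw [← hβdef, Subgroup.orderOf_coe, Subgroup.orderOf_coe, hbB]
  have hbz : β * z = z * β := by rw [← hβdef]; exact mem_cent.mp (bB : (Subgroup.centralizer ({z} : Set G))).2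
  -- membership in the centraliser of `B` in `Q`
  set D := Q ⊓ Subgroup.centralizer (B : Set (Subgroup.centralizer ({z} : Set G))) with hD
  set Q' := Q.map (Subgroup.subtype (Subgroup.centralizer ({z} : Set G))) with hQ'
  have hQmem : ∀ {a : G}, a ∈ Q' → ∃ ha : a ∈ (Subgroup.centralizer ({z} : Set G)), (⟨a, ha⟩ : (Subgroup.centralizer ({z} : Set G))) ∈ Q := by
    rintro _ ⟨c, hc, rfl⟩
    exact ⟨c.2, hc⟩
  have hDmem : ∀ (c : (Subgroup.centralizer ({z} : Set G))), c ∈ D ↔ (c : G) ∈ Q' ∧ (c : G) * β = β * c := by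
    intro c
    constructor
    · rintro ⟨h1, h2⟩
      refine ⟨⟨c, h1, rfl⟩, ?_⟩
      rw [← hβdef]
      exact (congrArg Subtype.val (Subgroup.mem_centralizer_iff.mp h2 _ bB.2)).symm
    · rintro ⟨h1, h2⟩
      obtain ⟨ha, hcQ⟩ := hQmem h1
      refine ⟨hcQ, Subgroup.mem_centralizer_iff.mpr fun b hb => Subtype.ext ?_⟩
      rw [SetLike.mem_coe, hgen] at hb
      obtain ⟨n, rfl⟩ := Subgroup.mem_zpowers_iff.mp hb
      rw [Subgroup.coe_mul, Subgroup.coe_mul, SubgroupClass.coe_zpow, hβdef]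
      exact (Commute.zpow_right (h2 : Commute (c : G) β) n).eq.symm
  have hC32 : Nat.card ↥(Q' ⊓ Subgroup.centralizer ({β} : Set G)) = 32 := by
    rw [← hCQcard]
    refine (Nat.card_eq_of_bijective (fun c : ↥D => (⟨((c : (Subgroup.centralizer ({z} : Set G))) : G), ((hDmem _).mp c.2).1,
      mem_cent.mpr ((hDmem _).mp c.2).2⟩ : ↥(Q' ⊓ Subgroup.centralizer ({β} : Set G))))
      ⟨fun a b e => Subtype.ext (Subtype.ext (congrArg
        (fun w : ↥(Q' ⊓ Subgroup.centralizer ({β} : Set G)) => (w : G)) e)), fun w => ?_⟩).symm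
    obtain ⟨ha, hwQ⟩ := hQmem w.2.1
    exact ⟨⟨⟨w, ha⟩, (hDmem _).mpr ⟨w.2.1, mem_cent.mp w.2.2⟩⟩, Subtype.ext rfl⟩
  have hnd : ∀ a ∈ Q', a * β = β * a → (∀ b ∈ Q', b * β = β * b → a * b = b * a) → a = 1 ∨ a = z := by
    intro a ha hab hall
    obtain ⟨haC, -⟩ := hQmem ha
    obtain ⟨w, hw⟩ := CfsgLib.ExtraTwo.ofExtraspecial hCQ
    have hz' : (⟨z, mem_cent.mpr rfl⟩ : (Subgroup.centralizer ({z} : Set G))) ∈ D := (hDmem _).mpr ⟨h.es.mem, hbz.symm⟩
    let aD : ↥D := ⟨⟨a, haC⟩, (hDmem _).mpr ⟨ha, hab⟩⟩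
    let zD : ↥D := ⟨_, hz'⟩
    have hzc : zD ∈ Subgroup.center ↥D := Subgroup.mem_center_iff.mpr fun k => Subtype.ext (Subtype.ext
      (h.es.comm _ ((hDmem _).mp k.2).1))
    have hac : aD ∈ Subgroup.center ↥D := Subgroup.mem_center_iff.mpr fun k => Subtype.ext (Subtype.ext
      (hall _ ((hDmem _).mp k.2).1 ((hDmem _).mp k.2).2).symm)
    have hzw : zD = w := ((hw.center_iff _).mp hzc).resolve_left fun e => h.es.ne
      (congrArg (fun k : ↥D => ((k : (Subgroup.centralizer ({z} : Set G))) : G)) e)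
    rcases (hw.center_iff _).mp hac with e | e
    · exact Or.inl (congrArg (fun k : ↥D => ((k : (Subgroup.centralizer ({z} : Set G))) : G)) e)
    · exact Or.inr (congrArg (fun k : ↥D => ((k : (Subgroup.centralizer ({z} : Set G))) : G)) (e.trans hzw.symm))
  have hno : ∀ a ∈ Q', ∀ b ∈ Q', a * β = β * a → b * β = β * b → a * a = 1 → b * b = 1 → a * b = b * a →
      π₀ a ≠ 0 → π₀ b ≠ 0 → π₀ a = π₀ b := by
    intro a ha b hb hab hbb ha2 hb2 hcomm ha0 hb0
    by_contra hne
    obtain ⟨haC, -⟩ := hQmem ha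
    obtain ⟨hbC, -⟩ := hQmem hb
    let zc : (Subgroup.centralizer ({z} : Set G)) := ⟨z, mem_cent.mpr rfl⟩
    let ac : (Subgroup.centralizer ({z} : Set G)) := ⟨a, haC⟩
    let bc : (Subgroup.centralizer ({z} : Set G)) := ⟨b, hbC⟩
    set A := Subgroup.closure ({zc, ac, bc} : Set (Subgroup.centralizer ({z} : Set G))) with hA
    have hgens : ∀ c ∈ ({zc, ac, bc} : Set (Subgroup.centralizer ({z} : Set G))), c ∈ D ∧ c * c = 1 := by
      rintro c (rfl | rfl | rfl)
      · exact ⟨(hDmem _).mpr ⟨h.es.mem, hbz.symm⟩, Subtype.ext h.zz⟩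
      · exact ⟨(hDmem _).mpr ⟨ha, hab⟩, Subtype.ext ha2⟩
      · exact ⟨(hDmem _).mpr ⟨hb, hbb⟩, Subtype.ext hb2⟩
    have hAD : A ≤ D := (Subgroup.closure_le _).mpr fun c hc => (hgens c hc).1
    have hcz : ∀ c : (Subgroup.centralizer ({z} : Set G)), zc * c = c * zc := fun c => Subtype.ext (mem_cent.mp c.2).symm
    have hcom : IsMulCommutative A := Subgroup.isMulCommutative_closure (by
      rintro u (rfl | rfl | rfl) v (rfl | rfl | rfl)
      exacts [rfl, hcz _, hcz _, (hcz _).symm, rfl, Subtype.ext hcomm, (hcz _).symm, Subtype.ext hcomm.symm, rfl])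
    have hexp : ∀ c ∈ A, c ^ 2 = 1 := by
      intro c hc
      induction hc using Subgroup.closure_induction with
      | mem c hc => rw [pow_two]; exact (hgens c hc).2
      | one => exact one_pow 2
      | mul u v hu hv iu iv =>
        have e : (⟨u, hu⟩ : A) * ⟨v, hv⟩ = ⟨v, hv⟩ * ⟨u, hu⟩ := hcom.is_comm.comm _ _
        rw [(show Commute u v from congrArg Subtype.val e).mul_pow, iu, iv, one_mul]
      | inv u _ iu => rw [inv_pow, iu, inv_one]
    have h4 := hminus A hAD ⟨hcom, hexp⟩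
    have hmem : ({1, zc, ac, bc, ac * bc} : Set (Subgroup.centralizer ({z} : Set G))) ⊆ (A : Set (Subgroup.centralizer ({z} : Set G))) := by
      have h1 : ∀ c ∈ ({zc, ac, bc} : Set (Subgroup.centralizer ({z} : Set G))), c ∈ A := fun c hc => Subgroup.subset_closure hc
      rintro c (rfl | rfl | rfl | rfl | rfl)
      exacts [one_mem _, h1 _ (by simp), h1 _ (by simp), h1 _ (by simp),
        mul_mem (h1 _ (by simp)) (h1 _ (by simp))]
    have hπab : π₀ (a * b) ≠ 0 := fun e => hne (by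
      rw [h.π_mul a ha b hb] at e
      calc π₀ a = π₀ a + (π₀ b + π₀ b) := by rw [V_add_self, add_zero]
        _ = π₀ b := by rw [← add_assoc, e, zero_add])
    have val : ∀ {c d : (Subgroup.centralizer ({z} : Set G))}, π₀ (c : G) ≠ π₀ (d : G) → c ≠ d := fun hcd e => hcd (by rw [e])
    have h5 : ({1, zc, ac, bc, ac * bc} : Set (Subgroup.centralizer ({z} : Set G))).ncard = 5 := by
      rw [Set.ncard_insert_of_notMem, Set.ncard_insert_of_notMem, Set.ncard_insert_of_notMem, Set.ncard_pair]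
      · exact val (c := bc) (d := ac * bc) (fun e => ha0 (by
          have e' : π₀ b = π₀ a + π₀ b := e.trans (h.π_mul a ha b hb)
          exact add_right_cancel (e'.symm.trans (zero_add _).symm)))
      · simp only [Set.mem_insert_iff, Set.mem_singleton_iff, not_or]
        exact ⟨val hne, val (c := ac) (d := ac * bc) (fun e => hb0 (by
          have e' : π₀ a = π₀ a + π₀ b := e.trans (h.π_mul a ha b hb)
          exact add_left_cancel (e'.symm.trans (add_zero _).symm)))⟩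
      · simp only [Set.mem_insert_iff, Set.mem_singleton_iff, not_or]
        exact ⟨val (fun e => ha0 (e.symm.trans h.π_z)), val (fun e => hb0 (e.symm.trans h.π_z)),
          val (fun e => hπab (e.symm.trans h.π_z))⟩
      · simp only [Set.mem_insert_iff, Set.mem_singleton_iff, not_or]
        exact ⟨fun e => h.es.ne (congrArg Subtype.val e).symm, val (fun e => ha0 (e.symm.trans h.π_one)),
          val (fun e => hb0 (e.symm.trans h.π_one)), val (fun e => hπab (e.symm.trans h.π_one))⟩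
    have := Set.ncard_le_ncard hmem (Set.toFinite _)
    rw [h5] at this
    exact absurd (this.trans h4) (by norm_num)
  obtain ⟨π, M, T⟩ := exists_B5 h hbz hb5 hC32 hnd hno
  obtain ⟨x, hxQ, hxπ⟩ := exists_Qs T.st false 0
  obtain ⟨g, W⟩ := T.exists_Sw hxQ hxπ
  set C := Subgroup.centralizer ((B.map (Subgroup.subtype (Subgroup.centralizer ({z} : Set G))) : Subgroup G) : Set G) with hCdef
  have hmemC : ∀ a, a ∈ C ↔ a * β = β * a := by
    intro a
    rw [hCdef, Subgroup.mem_centralizer_iff]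
    refine ⟨fun h' => (h' β (by rw [SetLike.mem_coe, hB']; exact Subgroup.mem_zpowers β)).symm, fun h' k hk => ?_⟩
    rw [SetLike.mem_coe, hB'] at hk
    obtain ⟨n, rfl⟩ := Subgroup.mem_zpowers_iff.mp hk
    exact (Commute.zpow_right (h' : Commute a β) n).eq.symm
  set N := (Subgroup.zpowers β).subgroupOf C with hN
  have hNmem : ∀ a : C, a ∈ N ↔ ∃ i : ℕ, (a : G) = β ^ i := by
    intro a
    rw [hN, Subgroup.mem_subgroupOf, ← mem_powers_iff_mem_zpowers, Submonoid.mem_powers_iff]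
    exact ⟨fun ⟨i, h'⟩ => ⟨i, h'.symm⟩, fun ⟨i, h'⟩ => ⟨i, h'.symm⟩⟩
  haveI : N.Normal := ⟨fun n hn a => by
    obtain ⟨i, hi⟩ := (hNmem n).mp hn
    refine (hNmem _).mpr ⟨i, ?_⟩
    rw [Subgroup.coe_mul, Subgroup.coe_mul, Subgroup.coe_inv, hi]
    exact conj_fix_iff.mpr (Commute.pow_right (show Commute (a : G) β from (hmemC _).mp a.2) i).eq⟩
  let zC : C := ⟨z, (hmemC z).mpr hbz.symm⟩
  have Pj : Proj z β C (QuotientGroup.mk' N) zC :=
    ⟨hmemC, QuotientGroup.mk'_surjective N, fun a => (QuotientGroup.eq_one_iff a).trans (hNmem a), rfl⟩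
  refine ⟨W.iso_layer Pj, ?_⟩
  rw [W.layer_eq Pj, W.cent_eq Pj]
  exact W.inter_iso

end CfsgLib.ConwayType.Five
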